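import Mathlib

/-!
Semisimple endomorphisms with equal characteristic polynomials are similar.
-/

set_option autoImplicit false

namespace Cfsg.Agent.FormCentral

open Polynomial

variable {F : Type*} [Field F]

section Cyclic

variable {V : Type*} [AddCommGroup V] [Module F V]

/-- Evaluation at a vector as a map out of the adjoined root. -/
theorem exists_cyclic_map {f : F[X]} {A : Module.End F V} {v : V} (hv : aeval A f v = 0) :
    ∃ φ : AdjoinRoot f →ₗ[F] V, ∀ P, φ (AdjoinRoot.mk f P) = aeval A P v := by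
  let ev : F[X] →ₗ[F] V := (LinearMap.applyₗ v).comp (aeval A).toLinearMap
  refine ⟨((Ideal.span {f}).restrictScalars F).liftQ ev fun P hP => ?_, fun P => rfl⟩
  obtain ⟨Q, rfl⟩ := Ideal.mem_span_singleton.1 hP
  show aeval A (f * Q) v = 0
  rw [mul_comm, map_mul, Module.End.mul_apply, hv, map_zero]

/-- The invariant subspace generated by a kernel vector of an irreducible polynomial. -/
theorem exists_cyclic_sub [FiniteDimensional F V] {f : F[X]} (hf : Irreducible f) (hm : f.Monic)
    {A : Module.End F V} {v : V} (hv0 : v ≠ 0) (hv : aeval A f v = 0) :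
    ∃ (X : Submodule F V) (hX : ∀ x ∈ X, A x ∈ X) (e : AdjoinRoot f ≃ₗ[F] X),
      (∀ a, (A.restrict hX) (e a) = e (AdjoinRoot.root f * a)) ∧ (A.restrict hX).charpoly = f := by
  haveI := Fact.mk hf
  obtain ⟨φ, hφ⟩ := exists_cyclic_map hv
  have hroot : ∀ a, φ (AdjoinRoot.root f * a) = A (φ a) := by
    intro a
    obtain ⟨P, rfl⟩ := AdjoinRoot.mk_surjective a
    rw [← AdjoinRoot.mk_X, ← map_mul, hφ, hφ, map_mul, aeval_X, Module.End.mul_apply]
  have hinj : Function.Injective φ := by
    refine LinearMap.ker_eq_bot.1 (LinearMap.ker_eq_bot'.2 fun a ha => ?_)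
    by_contra h
    obtain ⟨P, rfl⟩ := AdjoinRoot.mk_surjective a
    obtain ⟨Q, hQ⟩ := AdjoinRoot.mk_surjective (AdjoinRoot.mk f P)⁻¹
    refine hv0 ?_
    rw [hφ] at ha
    have h1 : φ (AdjoinRoot.mk f (Q * P)) = 0 := by
      rw [hφ, map_mul, Module.End.mul_apply, ha, map_zero]
    rw [map_mul, hQ, inv_mul_cancel₀ h, ← map_one (AdjoinRoot.mk f), hφ, map_one] at h1
    exact h1
  have hX : ∀ x ∈ LinearMap.range φ, A x ∈ LinearMap.range φ := by
    rintro _ ⟨a, rfl⟩
    exact ⟨_, hroot a⟩
  refine ⟨LinearMap.range φ, hX, LinearEquiv.ofInjective φ hinj, fun a => Subtype.ext (hroot a).symm, ?_⟩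
  have hconj : A.restrict hX =
      (LinearEquiv.ofInjective φ hinj).conj (Algebra.lmul F (AdjoinRoot f) (AdjoinRoot.root f)) := by
    refine LinearMap.ext fun x => ?_
    obtain ⟨a, rfl⟩ := (LinearEquiv.ofInjective φ hinj).surjective x
    rw [LinearEquiv.conj_apply_apply, LinearEquiv.symm_apply_apply]
    exact Subtype.ext (hroot a).symm
  haveI : Module.Finite F (AdjoinRoot f) := (AdjoinRoot.powerBasis hf.ne_zero).finite
  rw [hconj, LinearEquiv.charpoly_conj, ← LinearMap.charpoly_toMatrix _ (AdjoinRoot.powerBasis hf.ne_zero).basis]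
  have h := charpoly_leftMulMatrix (AdjoinRoot.powerBasis hf.ne_zero)
  rw [AdjoinRoot.powerBasis_gen hf.ne_zero, AdjoinRoot.minpoly_root hf.ne_zero, hm.leadingCoeff,
    inv_one, C_1, mul_one] at h
  exact h

theorem charpoly_split [FiniteDimensional F V] {X Y : Submodule F V} (h : IsCompl X Y) {A : Module.End F V}
    (hX : ∀ x ∈ X, A x ∈ X) (hY : ∀ x ∈ Y, A x ∈ Y) :
    A.charpoly = (A.restrict hX).charpoly * (A.restrict hY).charpoly := by
  rw [← LinearMap.charpoly_prodMap, ← LinearEquiv.charpoly_conj (Submodule.prodEquivOfIsCompl X Y h)]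
  congr 1
  refine LinearMap.ext fun v => ?_
  obtain ⟨⟨a, b⟩, rfl⟩ := (Submodule.prodEquivOfIsCompl X Y h).surjective v
  rw [LinearEquiv.conj_apply_apply, LinearEquiv.symm_apply_apply]
  simp

end Cyclic

/-- An irreducible factor of the characteristic polynomial of a semisimple map has a kernel vector. -/
theorem exists_kernel_vec {V : Type*} [AddCommGroup V] [Module F V] [FiniteDimensional F V]
    (A : Module.End F V) (hA : A.IsSemisimple) {f : F[X]} (hf : Irreducible f) (hd : f ∣ A.charpoly) :
    ∃ v : V, v ≠ 0 ∧ aeval A f v = 0 := by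
  induction hN : Module.finrank F V using Nat.strong_induction_on generalizing V with
  | _ N ih =>
  subst hN
  rcases subsingleton_or_nontrivial V with hs | hs
  · exfalso
    have h1 := A.charpoly_natDegree
    rw [Module.finrank_zero_of_subsingleton] at h1
    rw [Polynomial.eq_one_of_monic_natDegree_zero (LinearMap.charpoly_monic A) h1] at hd
    exact hf.not_isUnit (isUnit_of_dvd_one hd)
  obtain ⟨g, hgm, hg, hgμ⟩ := Polynomial.exists_monic_irreducible_factor (minpoly F A) (minpoly.not_isUnit F A)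
  obtain ⟨r, hr⟩ := hgμ
  have hμ := minpoly.aeval F A
  obtain ⟨v, hv0, hv⟩ : ∃ v, v ≠ 0 ∧ aeval A g v = 0 := by
    have hr0 : aeval A r ≠ 0 := by
      intro h0
      have h1 := minpoly.dvd F A h0
      have hne : minpoly F A ≠ 0 := minpoly.ne_zero (Algebra.IsIntegral.isIntegral A)
      rw [hr] at hne h1
      obtain ⟨s, hs⟩ := h1
      refine hg.not_isUnit (IsUnit.of_mul_eq_one s ?_)
      have hr0 : r ≠ 0 := right_ne_zero_of_mul hne
      exact mul_left_cancel₀ hr0 (by linear_combination -hs)
    obtain ⟨w, hw⟩ := DFunLike.ne_iff.1 hr0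
    exact ⟨_, hw, by rw [← Module.End.mul_apply, ← map_mul, ← hr, hμ, LinearMap.zero_apply]⟩
  obtain ⟨X, hX, e, -, hcp⟩ := exists_cyclic_sub hg hgm hv0 hv
  obtain ⟨Y, hY₀, hc⟩ := Module.End.isSemisimple_iff.1 hA X hX
  have hY : ∀ y ∈ Y, A y ∈ Y := fun y hy => hY₀ hy
  rw [charpoly_split hc hX hY, hcp] at hd
  rcases hf.prime.dvd_or_dvd hd with h | h
  · obtain ⟨u, hu⟩ := (hf.associated_of_dvd hg h).symm
    refine ⟨v, hv0, ?_⟩
    rw [← hu, mul_comm, map_mul, Module.End.mul_apply, hv, map_zero]
  · have hlt : Module.finrank F Y < Module.finrank F V := by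
      have h1 := Submodule.finrank_add_eq_of_isCompl hc
      haveI := Fact.mk hg
      haveI : Module.Finite F (AdjoinRoot g) := (AdjoinRoot.powerBasis hg.ne_zero).finite
      have h2 : 0 < Module.finrank F X := by
        rw [← e.finrank_eq]
        exact Module.finrank_pos
      omega
    obtain ⟨w, hw0, hw⟩ := ih _ hlt (A.restrict hY) (hA.restrict hY) h rfl
    refine ⟨w, fun h0 => hw0 (Subtype.ext h0), ?_⟩
    have hres : ∀ (P : F[X]) (y : Y), ((aeval (A.restrict hY) P y : Y) : V) = aeval A P (y : V) := by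
      intro P
      induction P using Polynomial.induction_on with
      | C a => intro y; simp
      | add p q hp hq => intro y; simp [hp, hq]
      | monomial n a ih' =>
        intro y
        rw [pow_succ, ← mul_assoc, map_mul, map_mul _ (C a * Polynomial.X ^ n), aeval_X, aeval_X, Module.End.mul_apply,
          Module.End.mul_apply, ih', LinearMap.restrict_coe_apply]
    rw [← hres, hw, ZeroMemClass.coe_zero]

/-- Semisimple maps with equal characteristic polynomials are similar. -/
theorem exists_intertwine_of_charpoly {V W : Type*} [AddCommGroup V] [Module F V] [FiniteDimensional F V]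
    [AddCommGroup W] [Module F W] [FiniteDimensional F W] (A : Module.End F V) (B : Module.End F W)
    (hA : A.IsSemisimple) (hB : B.IsSemisimple) (h : A.charpoly = B.charpoly) :
    ∃ P : V ≃ₗ[F] W, ∀ v, P (A v) = B (P v) := by
  induction hN : Module.finrank F V using Nat.strong_induction_on generalizing V W with
  | _ N ih =>
  subst hN
  have hdim : Module.finrank F V = Module.finrank F W := by
    rw [← A.charpoly_natDegree, h, B.charpoly_natDegree]
  rcases subsingleton_or_nontrivial V with hs | hs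
  · haveI : Subsingleton W := Module.finrank_zero_iff.1 (hdim ▸ Module.finrank_zero_of_subsingleton)
    exact ⟨LinearEquiv.ofFinrankEq V W hdim, fun v => Subsingleton.elim _ _⟩
  obtain ⟨f, hfm, hf, hfd⟩ := Polynomial.exists_monic_irreducible_factor A.charpoly (by
    intro hu
    have h1 := A.charpoly_natDegree
    rw [natDegree_eq_zero_of_isUnit hu] at h1
    have := Module.finrank_pos (R := F) (M := V)
    omega)
  obtain ⟨v, hv0, hv⟩ := exists_kernel_vec A hA hf hfd
  obtain ⟨w, hw0, hw⟩ := exists_kernel_vec B hB hf (h ▸ hfd)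
  obtain ⟨X, hX, e, he, hcX⟩ := exists_cyclic_sub hf hfm hv0 hv
  obtain ⟨X', hX', e', he', hcX'⟩ := exists_cyclic_sub hf hfm hw0 hw
  obtain ⟨Y, hY₀, hc⟩ := Module.End.isSemisimple_iff.1 hA X hX
  have hY : ∀ y ∈ Y, A y ∈ Y := fun y hy => hY₀ hy
  obtain ⟨Y', hY'₀, hc'⟩ := Module.End.isSemisimple_iff.1 hB X' hX'
  have hY' : ∀ y ∈ Y', B y ∈ Y' := fun y hy => hY'₀ hy
  have hcY : (A.restrict hY).charpoly = (B.restrict hY').charpoly := by
    rw [charpoly_split hc hX hY, charpoly_split hc' hX' hY', hcX, hcX'] at h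
    exact mul_left_cancel₀ hfm.ne_zero h
  have hlt : Module.finrank F Y < Module.finrank F V := by
    have h1 := Submodule.finrank_add_eq_of_isCompl hc
    have h2 : Module.finrank F X = f.natDegree := by rw [← (A.restrict hX).charpoly_natDegree, hcX]
    have := hf.natDegree_pos
    omega
  obtain ⟨P, hP⟩ := ih _ hlt (A.restrict hY) (B.restrict hY') (hA.restrict hY) (hB.restrict hY') hcY rfl
  refine ⟨(Submodule.prodEquivOfIsCompl X Y hc).symm.trans
    (((e.symm.trans e').prodCongr P).trans (Submodule.prodEquivOfIsCompl X' Y' hc')), fun u => ?_⟩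
  obtain ⟨⟨a, b⟩, rfl⟩ := (Submodule.prodEquivOfIsCompl X Y hc).surjective u
  have hAab : A (Submodule.prodEquivOfIsCompl X Y hc (a, b)) =
      Submodule.prodEquivOfIsCompl X Y hc (A.restrict hX a, A.restrict hY b) := by simp
  rw [hAab]
  simp only [LinearEquiv.trans_apply, LinearEquiv.symm_apply_apply, LinearEquiv.prodCongr_apply]
  obtain ⟨a, rfl⟩ := e.surjective a
  rw [he, LinearEquiv.symm_apply_apply, LinearEquiv.symm_apply_apply, hP, ← he']
  simp

/-- `A ^ k = 1` with `k` invertible gives semisimplicity. -/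
theorem isSemisimple_of_pow {V : Type*} [AddCommGroup V] [Module F V] [FiniteDimensional F V] {A : Module.End F V}
    {k : ℕ} (hk : (k : F) ≠ 0) (h : A ^ k = 1) : A.IsSemisimple := by
  refine Module.End.isSemisimple_of_squarefree_aeval_eq_zero (p := X ^ k - 1)
    (Polynomial.Separable.squarefree (Polynomial.separable_X_pow_sub_C (1 : F) hk one_ne_zero)) ?_
  rw [map_sub, map_pow, aeval_X, map_one, h, sub_self]

end Cfsg.Agent.FormCentral
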