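import Cfsg.Agent.Lib.FormCentral.Unitary
import Cfsg.Agent.S2569

/-!
Determinants of centralisers in the unitary group.
-/

set_option autoImplicit false

namespace Cfsg.Agent.FormCentral

open FormsLib

variable {F V : Type*} [Field F] [AddCommGroup V] [Module F V] [FiniteDimensional F V] {σ : F →+* F}
  {B : V →ₛₗ[σ] V →ₗ[F] F}

theorem det_adjoint (hV : IsTraceForm σ 1 B) {u T : Module.End F V} (hT : ∀ x y, B (T x) y = B x (u y)) :
    LinearMap.det T = σ (LinearMap.det u) := by
  classical
  let b := Module.finBasis F V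
  set G : Matrix (Fin (Module.finrank F V)) (Fin (Module.finrank F V)) F := Matrix.of fun i j => B (b i) (b j)
  set MT := LinearMap.toMatrix b b T
  set MU := LinearMap.toMatrix b b u
  have hTb : ∀ i, T (b i) = ∑ k, MT k i • b k := fun i => by
    simp only [MT, LinearMap.toMatrix_apply]; exact (b.sum_repr _).symm
  have hUb : ∀ i, u (b i) = ∑ k, MU k i • b k := fun i => by
    simp only [MU, LinearMap.toMatrix_apply]; exact (b.sum_repr _).symm
  have key : (MT.map σ).transpose * G = G * MU := by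
    ext i j
    have h := hT (b i) (b j)
    rw [hTb, hUb] at h
    simp only [map_sum, map_smulₛₗ, LinearMap.coe_sum, Finset.sum_apply, LinearMap.smul_apply, RingHom.id_apply,
      smul_eq_mul] at h
    simp only [Matrix.mul_apply, Matrix.transpose_apply, Matrix.map_apply, G, Matrix.of_apply]
    rw [h]
    exact Finset.sum_congr rfl fun k _ => mul_comm _ _
  have hG : G.det ≠ 0 := by
    intro h0
    obtain ⟨v, hv, hv'⟩ := Matrix.exists_mulVec_eq_zero_iff.2 h0
    refine hv ?_
    have hz : ∑ k, v k • b k = 0 := by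
      refine hV.nondeg _ fun w => ?_
      have hz' : ∀ i, B (b i) (∑ k, v k • b k) = 0 := fun i => by
        have := congrFun hv' i
        simp only [Matrix.mulVec, dotProduct, G, Matrix.of_apply, Pi.zero_apply] at this
        simp only [map_sum, map_smul, smul_eq_mul]
        rw [← this]
        exact Finset.sum_congr rfl fun k _ => mul_comm _ _
      rw [hV.flip]
      have hw : B w (∑ k, v k • b k) = 0 := by
        generalize (∑ k, v k • b k) = s at hz' ⊢
        rw [← b.sum_repr w, map_sum, LinearMap.sum_apply]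
        refine Finset.sum_eq_zero fun i _ => ?_
        rw [map_smulₛₗ, LinearMap.smul_apply, hz', smul_zero]
      rw [hw, map_zero, mul_zero]
    funext k
    exact Fintype.linearIndependent_iff.1 b.linearIndependent v hz k
  have h := congrArg Matrix.det key
  rw [Matrix.det_mul, Matrix.det_mul, Matrix.det_transpose, ← RingHom.mapMatrix_apply, ← RingHom.map_det,
    mul_comm (G.det)] at h
  have h' := congrArg σ (mul_right_cancel₀ hG h)
  rw [hV.invol, LinearMap.det_toMatrix, LinearMap.det_toMatrix] at h'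
  exact h'

theorem exists_adjoint (hV : IsTraceForm σ 1 B) (u : Module.End F V) :
    ∃ T : Module.End F V, ∀ x y, B (T x) y = B x (u y) := by
  choose f hf using fun x : V => hV.exists_rep ((B x).comp u)
  have key : ∀ x y, B (f x) y = B x (u y) := fun x y => by rw [hf x]; rfl
  exact ⟨{ toFun := f
           map_add' := fun a b => eq_of_pairing hV fun v => by
             simp only [map_add, LinearMap.add_apply, key]
           map_smul' := fun c a => eq_of_pairing hV fun v => by
             simp only [map_smulₛₗ, RingHom.id_apply, LinearMap.smul_apply, key] }, key⟩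

theorem commute_adjoint (hV : IsTraceForm σ 1 B) {A u T : Module.End F V} (hA : ∀ x y, B (A x) (A y) = B x y)
    (hT : ∀ x y, B (T x) y = B x (u y)) (hu : Commute u A) : Commute T A := by
  have hinj : Function.Injective A := fun a b hab => eq_of_pairing hV fun v => by rw [← hA a v, hab, hA]
  refine commute_of_pairing hV (LinearMap.injective_iff_surjective.1 hinj) hA fun x y => ?_
  rw [hT, show u (A y) = A (u y) from LinearMap.congr_fun hu.eq y, hA, hT]

/-- A normal invertible element of the commutant gives a unitary element `u (u*)⁻¹`. -/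
theorem exists_unitary_of_normal (hV : IsTraceForm σ 1 B) {A u T : Module.End F V}
    (hA : ∀ x y, B (A x) (A y) = B x y) (hT : ∀ x y, B (T x) y = B x (u y)) (huA : Commute u A)
    (huT : Commute u T) (hd : LinearMap.det u ≠ 0) :
    ∃ c : V ≃ₗ[F] V, (∀ x y, B (c x) (c y) = B x y) ∧ (∀ v, c (A v) = A (c v)) ∧
      LinearMap.det (c : V →ₗ[F] V) * σ (LinearMap.det u) = LinearMap.det u := by
  have hTd : LinearMap.det T ≠ 0 := by
    rw [det_adjoint hV hT]; exact (map_ne_zero σ).2 hd
  let U := LinearEquiv.ofIsUnitDet (f := u) (v := Module.finBasis F V) (v' := Module.finBasis F V)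
    (by rw [LinearMap.det_toMatrix]; exact hd.isUnit)
  let E := LinearEquiv.ofIsUnitDet (f := T) (v := Module.finBasis F V) (v' := Module.finBasis F V)
    (by rw [LinearMap.det_toMatrix]; exact hTd.isUnit)
  have hU : ∀ v, U v = u v := fun v => rfl
  have hE : ∀ v, E v = T v := fun v => rfl
  refine ⟨E.symm.trans U, fun x y => ?_, fun v => ?_, ?_⟩
  · obtain ⟨x, rfl⟩ := E.surjective x
    obtain ⟨y, rfl⟩ := E.surjective y
    simp only [LinearEquiv.trans_apply, LinearEquiv.symm_apply_apply]
    simp only [hU, hE]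
    rw [← hT, show T (u x) = u (T x) from LinearMap.congr_fun huT.eq.symm x, hV.flip y (u (T x)), ← hT,
      ← hV.flip]
  · obtain ⟨v, rfl⟩ := E.surjective v
    have h : A (E v) = E (A v) := LinearMap.congr_fun (commute_adjoint hV hA hT huA).eq.symm v
    simp only [LinearEquiv.trans_apply, h, LinearEquiv.symm_apply_apply, hU]
    exact LinearMap.congr_fun huA.eq v
  · have hcT : ((E.symm.trans U : V ≃ₗ[F] V) : Module.End F V) * T = u := LinearMap.ext fun v => by
      show U (E.symm (E v)) = u v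
      rw [LinearEquiv.symm_apply_apply, hU]
    rw [← det_adjoint hV hT, ← map_mul, hcT]

/-- Extension by the identity on a complement. -/
theorem exists_extend {W C : Submodule F V} (hc : IsCompl W C) (l : Module.End F W) :
    ∃ u : Module.End F V, (∀ w : W, u w = l w) ∧ (∀ x ∈ C, u x = x) ∧ LinearMap.det u = LinearMap.det l := by
  set e := Submodule.prodEquivOfIsCompl W C hc
  refine ⟨e.conj (LinearMap.prodMap l LinearMap.id), fun w => ?_, fun x hx => ?_, ?_⟩
  · rw [show (w : V) = e (w, 0) by simp [e], LinearEquiv.conj_apply_apply, LinearEquiv.symm_apply_apply]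
    simp [e]
  · rw [show x = e (0, ⟨x, hx⟩) by simp [e], LinearEquiv.conj_apply_apply, LinearEquiv.symm_apply_apply]
    simp [e]
  · rw [LinearEquiv.conj_apply, LinearMap.comp_assoc, LinearMap.det_conj, LinearMap.det_prodMap, LinearMap.det_id,
      mul_one]

variable [Finite F]

/-- Norm-one scalars are quotients `d / σ d`. -/
theorem exists_ratio (hV : IsTraceForm σ 1 B) (hσ : σ ≠ RingHom.id F) {x : F} (hx : x * σ x = 1) :
    ∃ d : F, d ≠ 0 ∧ d = σ d * x := by
  obtain ⟨c, hc⟩ : ∃ c : F, σ c ≠ c := by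
    by_contra h
    push Not at h
    exact hσ (RingHom.ext h)
  obtain ⟨y, hy, hyx⟩ := exists_of_norm_one σ hV.invol (sub_ne_zero.2 (Ne.symm hc)).isUnit hx
  exact ⟨y, hy.ne_zero, hyx⟩

/-- **Determinant surjectivity** for centralisers of semisimple unitary elements. -/
theorem exists_unitary_commute_det [Nontrivial V] (hV : IsTraceForm σ 1 B) (hσ : σ ≠ RingHom.id F)
    (A : Module.End F V) (hA : ∀ x y, B (A x) (A y) = B x y) (hss : A.IsSemisimple) {x : F} (hx : x * σ x = 1) :
    ∃ c : V ≃ₗ[F] V, (∀ x y, B (c x) (c y) = B x y) ∧ (∀ v, c (A v) = A (c v)) ∧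
      LinearMap.det (c : V →ₗ[F] V) = x := by
  classical
  obtain ⟨d, hd, hdx⟩ := exists_ratio hV hσ hx
  suffices ∃ u T : Module.End F V, (∀ a b, B (T a) b = B a (u b)) ∧ Commute u A ∧ Commute u T ∧
      LinearMap.det u = d by
    obtain ⟨u, T, hT, huA, huT, hdu⟩ := this
    obtain ⟨c, h1, h2, h3⟩ := exists_unitary_of_normal hV hA hT huA huT (hdu ▸ hd)
    refine ⟨c, h1, h2, mul_right_cancel₀ ((map_ne_zero σ).2 hd) ?_⟩
    rw [hdu] at h3
    rw [h3]
    exact hdx.trans (mul_comm _ _)
  have hinjA : Function.Injective A := fun a b hab => eq_of_pairing hV fun v => by rw [← hA a v, hab, hA]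
  -- orthogonal of an invariant subspace
  let orth : Submodule F V → Submodule F V := fun W => ⨅ w : W, LinearMap.ker (B (w : V))
  have horth : ∀ W v, v ∈ orth W ↔ ∀ w ∈ W, B w v = 0 := fun W v => by
    simp [orth, Submodule.mem_iInf]
  have horth_inv : ∀ W : Submodule F V, (∀ w ∈ W, A w ∈ W) → ∀ v ∈ orth W, A v ∈ orth W := by
    intro W hW v hv
    rw [horth] at hv ⊢
    intro w hw
    obtain ⟨⟨w', hw'⟩, he⟩ := LinearMap.injective_iff_surjective.1
      (show Function.Injective ⇑(A.restrict hW) from fun a b h => Subtype.ext (hinjA (congrArg Subtype.val h))) ⟨w, hw⟩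
    rw [← show A w' = w from congrArg Subtype.val he, hA]
    exact hv w' hw'
  let Min : Submodule F V → Prop := fun W => W ≠ ⊥ ∧ (∀ w ∈ W, A w ∈ W) ∧
    ∀ X : Submodule F V, X ≤ W → (∀ w ∈ X, A w ∈ X) → X = ⊥ ∨ X = W
  obtain ⟨W, ⟨hWne, hWA, hmin'⟩, hchoice⟩ : ∃ W, Min W ∧ (W ⊓ orth W = ⊥ ∨ ∀ X, Min X → X ⊓ orth X ≠ ⊥) := by
    by_cases h : ∃ W, Min W ∧ W ⊓ orth W = ⊥
    · obtain ⟨W, hW, hW0⟩ := h
      exact ⟨W, hW, Or.inl hW0⟩
    · push Not at h
      obtain ⟨W, ⟨hWne, hWA⟩, hmin⟩ := wellFounded_lt.has_min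
        {W : Submodule F V | W ≠ ⊥ ∧ ∀ w ∈ W, A w ∈ W} ⟨⊤, top_ne_bot, fun _ _ => Submodule.mem_top⟩
      refine ⟨W, ⟨hWne, hWA, fun X hXW hXA => ?_⟩, Or.inr h⟩
      by_contra h'
      push Not at h'
      exact hmin X ⟨h'.1, hXA⟩ (lt_of_le_of_ne hXW h'.2)
  haveI : Nontrivial W := Submodule.nontrivial_iff_ne_bot.2 hWne
  let AW : Module.End F W := A.restrict hWA
  have hAWinj : Function.Injective AW := fun a b h => Subtype.ext (hinjA (congrArg Subtype.val h))
  have hssW : AW.IsSemisimple := hss.restrict hWA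
  obtain ⟨l, hl, hld⟩ := S2569.exists_commute_det AW hssW hAWinj d hd
  rcases hmin' (W ⊓ orth W) inf_le_left (fun w hw => ⟨hWA w hw.1, horth_inv W hWA w hw.2⟩) with h0 | h0
  · -- `W` non-degenerate
    have hc : IsCompl W (orth W) := by
      refine ⟨disjoint_iff.2 h0, codisjoint_iff.2 (eq_top_iff.2 fun v _ => ?_)⟩
      let Bw : W →ₛₗ[σ] W →ₗ[F] F := (B.domRestrict₁₂ W W)
      have hWt : IsTraceForm σ 1 Bw :=
        ⟨hV.invol, hV.eps, fun a b => hV.flip a b, fun a => hV.trace a, fun a ha => Subtype.ext ((Submodule.eq_bot_iff _).1 h0 _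
          ⟨a.2, (horth W a).2 fun w hw => by
            rw [hV.flip, show B (a : V) w = 0 from ha ⟨w, hw⟩, map_zero, mul_zero]⟩)⟩
      obtain ⟨w, hw⟩ := hWt.exists_rep ((B v).comp W.subtype)
      refine Submodule.mem_sup.2 ⟨w, w.2, v - w, (horth W _).2 fun z hz => ?_, add_sub_cancel _ _⟩
      have h1 : B (w : V) z = B v z := LinearMap.congr_fun hw ⟨z, hz⟩
      rw [map_sub, hV.flip v z, hV.flip (w : V) z, h1, sub_self]
    obtain ⟨u, huW, huC, hud⟩ := exists_extend hc l
    obtain ⟨T, hT⟩ := exists_adjoint hV u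
    have huA : Commute u A := by
      refine LinearMap.ext fun v => ?_
      obtain ⟨a, ha, b, hb, rfl⟩ := Submodule.mem_sup.1 (hc.sup_eq_top ▸ Submodule.mem_top : v ∈ W ⊔ orth W)
      simp only [Module.End.mul_apply, map_add, huC b hb, huC _ (horth_inv W hWA b hb)]
      rw [huW ⟨a, ha⟩, show u (A a) = l (AW ⟨a, ha⟩) from huW (AW ⟨a, ha⟩),
        show l (AW ⟨a, ha⟩) = AW (l ⟨a, ha⟩) from LinearMap.congr_fun hl.eq _]
      rfl
    refine ⟨u, T, hT, huA, ?_, hud.trans hld⟩
    have hTC : ∀ b ∈ orth W, T b = b := fun b hb => eq_of_pairing hV fun y => by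
      obtain ⟨a, ha, b', hb', rfl⟩ := Submodule.mem_sup.1 (hc.sup_eq_top ▸ Submodule.mem_top : y ∈ W ⊔ orth W)
      rw [hT, map_add, huC b' hb', map_add, map_add, huW ⟨a, ha⟩]
      have h1 : ∀ z : W, B b (z : V) = 0 := fun z => by
        rw [hV.flip, (horth W b).1 hb z z.2, map_zero, mul_zero]
      rw [h1, h1 ⟨a, ha⟩]
    have hTW : ∀ a ∈ W, T a ∈ W := fun a ha => by
      obtain ⟨a', ha', b, hb, he⟩ := Submodule.mem_sup.1 (hc.sup_eq_top ▸ Submodule.mem_top : T a ∈ W ⊔ orth W)
      have hb0 : b = 0 := hV.nondeg b fun y => by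
        obtain ⟨c', hc', b', hb', rfl⟩ := Submodule.mem_sup.1 (hc.sup_eq_top ▸ Submodule.mem_top : y ∈ W ⊔ orth W)
        rw [map_add, show B b c' = 0 by rw [hV.flip, (horth W b).1 hb c' hc', map_zero, mul_zero], zero_add]
        have h1 : B (T a) b' = 0 := by rw [hT, huC b' hb', (horth W b').1 hb' a ha]
        rw [← he, map_add, LinearMap.add_apply, (horth W b').1 hb' a' ha', zero_add] at h1
        exact h1
      rw [← he, hb0, add_zero]
      exact ha'
    -- commutant of an irreducible `AW` is commutative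
    have hcommW : ∀ φ ψ : Module.End F W, Commute φ AW → Commute ψ AW → Commute φ ψ := by
      obtain ⟨v₀, hv₀⟩ := exists_ne (0 : W)
      have hcyc : ∀ w : W, ∃ P : Polynomial F, w = Polynomial.aeval AW P v₀ := by
        let R : Submodule F V := (LinearMap.range ((LinearMap.applyₗ v₀).comp (Polynomial.aeval AW).toLinearMap)).map W.subtype
        have hR : R = W := (hmin' R (Submodule.map_subtype_le W _) (by
          rintro _ ⟨_, ⟨P, rfl⟩, rfl⟩
          refine ⟨_, ⟨Polynomial.X * P, rfl⟩, ?_⟩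
          show ((Polynomial.aeval AW (Polynomial.X * P)) v₀ : V) = A ((Polynomial.aeval AW P) v₀ : V)
          rw [map_mul, Polynomial.aeval_X]
          rfl)).resolve_left fun h => hv₀ (Subtype.ext ((Submodule.eq_bot_iff _).1 h _ ⟨v₀, ⟨1, by simp⟩, rfl⟩))
        intro w
        obtain ⟨w', ⟨P, hP⟩, he⟩ : (w : V) ∈ R := hR.symm ▸ w.2
        exact ⟨P, (Subtype.ext he).symm.trans hP.symm⟩
      intro φ ψ hφ hψ
      obtain ⟨P, hP⟩ := hcyc (φ v₀)
      obtain ⟨Q, hQ⟩ := hcyc (ψ v₀)
      have hc1 : ∀ (χ : Module.End F W) (R : Polynomial F), Commute χ AW → ∀ w, χ (Polynomial.aeval AW R w) =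
          Polynomial.aeval AW R (χ w) := fun χ R hχ w => by
        refine LinearMap.congr_fun (Algebra.commute_of_mem_adjoin_of_forall_mem_commute
          (s := {AW}) (a := χ) (Polynomial.aeval_mem_adjoin_singleton F AW) (by simpa using hχ)).eq w
      refine LinearMap.ext fun w => ?_
      obtain ⟨R, rfl⟩ := hcyc w
      simp only [Module.End.mul_apply]
      rw [hc1 ψ R hψ, hc1 φ R hφ, hc1 φ R hφ, hc1 ψ R hψ, hP, hQ, hc1 φ Q hφ, hc1 ψ P hψ, hP, hQ,
        ← Module.End.mul_apply (Polynomial.aeval AW P) (Polynomial.aeval AW Q), ← map_mul, mul_comm, map_mul,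
        Module.End.mul_apply]
    refine LinearMap.ext fun v => ?_
    obtain ⟨a, ha, b, hb, rfl⟩ := Submodule.mem_sup.1 (hc.sup_eq_top ▸ Submodule.mem_top : v ∈ W ⊔ orth W)
    have hTA : ∀ z : W, (T.restrict hTW) (AW z) = AW ((T.restrict hTW) z) := fun z =>
      Subtype.ext (LinearMap.congr_fun (commute_adjoint hV hA hT huA).eq (z : V))
    simp only [Module.End.mul_apply, map_add, hTC b hb, huC b hb]
    rw [huW ⟨a, ha⟩]
    congr 1
    rw [show T a = ((T.restrict hTW) ⟨a, ha⟩ : V) from rfl, huW]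
    exact congrArg Subtype.val (LinearMap.congr_fun
      (hcommW l (T.restrict hTW) hl (LinearMap.ext hTA)).eq ⟨a, ha⟩)
  · -- `W` totally isotropic
    have hiso : ∀ a ∈ W, ∀ b ∈ W, B a b = 0 := fun a ha b hb =>
      (horth W b).1 ((inf_eq_left.1 h0) hb) a ha
    obtain ⟨C₀, hC₀A, hC₀⟩ := Module.End.isSemisimple_iff.1 hss (orth W) fun v hv => horth_inv W hWA v hv
    have hC₀A' : ∀ c ∈ C₀, A c ∈ C₀ := fun c hc => hC₀A hc
    have hC₀ne : C₀ ≠ ⊥ := by
      intro h
      rw [h] at hC₀
      have htop : orth W = ⊤ := by simpa using hC₀.sup_eq_top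
      obtain ⟨w, hw, hw0⟩ := Submodule.exists_mem_ne_zero_of_ne_bot hWne
      exact hw0 (hV.nondeg w fun y => (horth W y).1 (htop ▸ Submodule.mem_top) w hw)
    obtain ⟨W', ⟨hW'ne, hW'A, hW'C⟩, hmin2⟩ := wellFounded_lt.has_min
      {X : Submodule F V | X ≠ ⊥ ∧ (∀ w ∈ X, A w ∈ X) ∧ X ≤ C₀} ⟨C₀, hC₀ne, hC₀A', le_rfl⟩
    -- `W` meets the orthogonal of `W'` trivially
    have hdis : W ⊓ orth W' = ⊥ := by
      refine (hmin' _ inf_le_left fun w hw => ⟨hWA w hw.1, horth_inv W' hW'A w hw.2⟩).resolve_right fun h => ?_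
      obtain ⟨y, hy, hy0⟩ := Submodule.exists_mem_ne_zero_of_ne_bot hW'ne
      refine hy0 (Submodule.disjoint_def.1 hC₀.disjoint y ((horth W y).2 fun w hw => ?_) (hW'C hy))
      rw [hV.flip, (horth W' w).1 (inf_eq_left.1 h hw) y hy, map_zero, mul_zero]
    haveI : Finite V := Module.finite_of_finite F
    have hdimW' : Module.finrank F W' ≤ Module.finrank F W := by
      haveI : Finite (W →ₗ[F] F) := Finite.of_injective _ DFunLike.coe_injective
      have hinj : Function.Injective (fun y : W' => ((B (y : V)).comp W.subtype : W →ₗ[F] F)) := by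
        intro a b hab
        have h1 : (a : V) - b ∈ orth W := (horth W _).2 fun w hw => by
          have := LinearMap.congr_fun hab ⟨w, hw⟩
          simp only [LinearMap.comp_apply, Submodule.subtype_apply] at this
          rw [map_sub, hV.flip (a : V) w, hV.flip (b : V) w, this, sub_self]
        exact Subtype.ext (sub_eq_zero.1 (Submodule.disjoint_def.1 hC₀.disjoint _ h1
          (hW'C (W'.sub_mem a.2 b.2))))
      have h := Nat.card_le_card_of_injective _ hinj
      rw [Module.natCard_eq_pow_finrank (K := F) (V := W'),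
        Module.natCard_eq_pow_finrank (K := F) (V := Module.Dual F W), Subspace.dual_finrank_eq] at h
      exact (Nat.pow_le_pow_iff_right (Finite.one_lt_card (α := F))).1 h
    have hc : IsCompl W (orth W') := by
      refine ⟨disjoint_iff.2 hdis, codisjoint_iff.2 (Submodule.eq_top_of_finrank_eq ?_)⟩
      have h1 := Submodule.finrank_sup_add_finrank_inf_eq W (orth W')
      rw [hdis, finrank_bot, add_zero] at h1
      let Ψ : V →ₗ[F] (Fin (Module.finrank F W') → F) := LinearMap.pi fun i => B (Module.finBasis F W' i : V)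
      have hle : LinearMap.ker Ψ ≤ orth W' := fun v hv => (horth W' v).2 fun w hw => by
        have hb : ∀ i, B (Module.finBasis F W' i : V) v = 0 := fun i => congrFun hv i
        have hs := congrArg Subtype.val ((Module.finBasis F W').sum_repr ⟨w, hw⟩)
        rw [Submodule.coe_sum] at hs
        simp only [Submodule.coe_smul] at hs
        rw [← hs, map_sum, LinearMap.sum_apply]
        refine Finset.sum_eq_zero fun i _ => ?_
        rw [map_smulₛₗ, LinearMap.smul_apply, hb, smul_zero]
      have h2 := Ψ.finrank_range_add_finrank_ker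
      have h3 := (LinearMap.range Ψ).finrank_le
      have h4 := Submodule.finrank_mono hle
      rw [Module.finrank_fin_fun] at h3
      have h5 := (W ⊔ orth W').finrank_le
      omega
    obtain ⟨u, huW, huC, hud⟩ := exists_extend hc l
    obtain ⟨T, hT⟩ := exists_adjoint hV u
    have huA : Commute u A := by
      refine LinearMap.ext fun v => ?_
      obtain ⟨a, ha, b, hb, rfl⟩ := Submodule.mem_sup.1 (hc.sup_eq_top ▸ Submodule.mem_top : v ∈ W ⊔ orth W')
      simp only [Module.End.mul_apply, map_add, huC b hb, huC _ (horth_inv W' hW'A b hb)]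
      rw [huW ⟨a, ha⟩, show u (A a) = l (AW ⟨a, ha⟩) from huW (AW ⟨a, ha⟩),
        show l (AW ⟨a, ha⟩) = AW (l ⟨a, ha⟩) from LinearMap.congr_fun hl.eq _]
      rfl
    -- `u - 1` has range in `W`, `T - 1` has range in `W'`
    have hN : ∀ x, u x - x ∈ W := fun x => by
      obtain ⟨a, ha, b, hb, rfl⟩ := Submodule.mem_sup.1 (hc.sup_eq_top ▸ Submodule.mem_top : x ∈ W ⊔ orth W')
      rw [map_add, huC b hb, huW ⟨a, ha⟩, add_sub_add_right_eq_sub]
      exact W.sub_mem (l _).2 ha
    have hTx : ∀ x ∈ orth W, T x = x := fun x hx => eq_of_pairing hV fun y => by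
      rw [hT, show u y = y + (u y - y) by abel, map_add,
        show B x (u y - y) = 0 by rw [hV.flip, (horth W x).1 hx _ (hN y), map_zero, mul_zero], add_zero]
    have hTN : ∀ x, T x - x ∈ W' := fun x => by
      -- `T x - x` pairs to zero with the orthogonal of `W'`
      by_contra hx
      obtain ⟨z, hz, hzx⟩ := hV.exists_sep hx
      have hz' : z ∈ orth W' := (horth W' z).2 fun w hw => by rw [hV.flip, hz w hw, map_zero, mul_zero]
      have h1 : B (T x - x) z = 0 := by rw [map_sub, LinearMap.sub_apply, hT, huC z hz', sub_self]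
      rw [hV.flip, hzx, map_one, mul_one] at h1
      exact one_ne_zero h1
    refine ⟨u, T, hT, huA, LinearMap.ext fun x => ?_, hud.trans hld⟩
    have hW'iso : ∀ y ∈ W', y ∈ orth W' := by
      have hM : ∀ X : Submodule F V, X ≤ W' → (∀ w ∈ X, A w ∈ X) → X = ⊥ ∨ X = W' := fun X hX hXA => by
        by_contra h'
        push Not at h'
        exact hmin2 X ⟨h'.1, hXA, hX.trans hW'C⟩ (lt_of_le_of_ne hX h'.2)
      have hno : W ⊓ orth W ≠ ⊥ := h0.symm ▸ hWne
      have h := (hM _ inf_le_left fun w hw => ⟨hW'A w hw.1, horth_inv W' hW'A w hw.2⟩).resolve_left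
        (hchoice.resolve_left hno W' ⟨hW'ne, hW'A, hM⟩)
      exact fun y hy => (inf_eq_left.1 h) hy
    simp only [Module.End.mul_apply]
    have e1 : u (T x) = T x + (u x - x) := by
      conv_lhs => rw [show T x = x + (T x - x) by abel, map_add, huC _ (hW'iso _ (hTN x))]
      abel
    have e2 : T (u x) = T x + (u x - x) := by
      conv_lhs => rw [show u x = x + (u x - x) by abel, map_add,
        hTx _ ((horth W _).2 fun w hw => hiso w hw _ (hN x))]
    rw [e1, e2]

end Cfsg.Agent.FormCentral
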