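import Cfsg.Agent.Lib.FormCentral.UnitaryDet
import Cfsg.Agent.Lib.FormCentral.CharpolyConj
import Cfsg.Agent.Lib.LinearGroups.UnitaryOrder

/-!
Conjugacy in the special unitary group.
-/

set_option autoImplicit false

namespace Cfsg.Agent.FormCentral

open FormsLib Matrix

variable {K : Type*} [Field K] [Fintype K] {q n : ℕ}

theorem su_toGL_mem (s : ↥(Cfsg.SU n K q)) :
    Matrix.SpecialLinearGroup.toGL (s : Matrix.SpecialLinearGroup (Fin n) K) ∈ Cfsg.GU n K q := fun u v => s.2 u v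

/-- A linear isometry of the standard form as an element of `GU`. -/
theorem exists_gu_of_isometry {σ : K →+* K} (hσ : ∀ x, σ x = x ^ q) (g : (Fin n → K) ≃ₗ[K] (Fin n → K))
    (hg : ∀ u v, hermB n σ (g u) (g v) = hermB n σ u v) :
    ∃ G : GL (Fin n) K, G ∈ Cfsg.GU n K q ∧ (∀ v, (G : Matrix (Fin n) (Fin n) K) *ᵥ v = g v) ∧
      (G : Matrix (Fin n) (Fin n) K).det = LinearMap.det (g : (Fin n → K) →ₗ[K] (Fin n → K)) := by
  let G : GL (Fin n) K := Matrix.GeneralLinearGroup.toLin.symm (LinearMap.GeneralLinearGroup.ofLinearEquiv g)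
  have hG : ∀ v, (G : Matrix (Fin n) (Fin n) K) *ᵥ v = g v := fun v =>
    LinearMap.toMatrix'_mulVec (g.toLinearMap : (Fin n → K) →ₗ[K] (Fin n → K)) v
  refine ⟨G, fun u v => ?_, hG, LinearMap.det_toMatrix' _⟩
  show hermForm n K q ((G : Matrix (Fin n) (Fin n) K) *ᵥ u) ((G : Matrix (Fin n) (Fin n) K) *ᵥ v) = _
  rw [hG, hG, ← hermB_apply hσ, ← hermB_apply hσ, hg]

/-- Similar special unitary elements are conjugate in `SU` if the unitary centraliser has all determinants. -/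
theorem su_isConj (hK : Fintype.card K = q ^ 2) (s t : ↥(Cfsg.SU n K q)) (P : GL (Fin n) K)
    (hP : P * Matrix.SpecialLinearGroup.toGL (s : Matrix.SpecialLinearGroup (Fin n) K) =
      Matrix.SpecialLinearGroup.toGL (t : Matrix.SpecialLinearGroup (Fin n) K) * P)
    (hcent : ∀ x : K, x ^ (q + 1) = 1 → ∃ C : GL (Fin n) K, C ∈ Cfsg.GU n K q ∧
      C * Matrix.SpecialLinearGroup.toGL (s : Matrix.SpecialLinearGroup (Fin n) K) =
        Matrix.SpecialLinearGroup.toGL (s : Matrix.SpecialLinearGroup (Fin n) K) * C ∧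
      (C : Matrix (Fin n) (Fin n) K).det = x) : IsConj s t := by
  obtain ⟨g, hg, hgs⟩ := gu_intertwine hK (su_toGL_mem s) (su_toGL_mem t) hP
  have hdg := UnitaryOrder.det_norm_one hK hg
  have hd0 : (g : Matrix (Fin n) (Fin n) K).det ≠ 0 := ((Matrix.isUnit_iff_isUnit_det _).1 g.isUnit).ne_zero
  obtain ⟨C, hC, hCs, hCd⟩ := hcent (g : Matrix (Fin n) (Fin n) K).det⁻¹ (by rw [inv_pow, hdg, inv_one])
  have hdet : ((g * C : GL (Fin n) K) : Matrix (Fin n) (Fin n) K).det = 1 := by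
    rw [Units.val_mul, Matrix.det_mul, hCd, mul_inv_cancel₀ hd0]
  let h : ↥(Cfsg.SU n K q) := ⟨⟨_, hdet⟩, (Cfsg.GU n K q).mul_mem hg hC⟩
  refine isConj_iff.2 ⟨h, mul_inv_eq_iff_eq_mul.2 (Subtype.ext (Subtype.ext (congrArg Units.val (?_ :
    g * C * Matrix.SpecialLinearGroup.toGL (s : Matrix.SpecialLinearGroup (Fin n) K) =
      Matrix.SpecialLinearGroup.toGL (t : Matrix.SpecialLinearGroup (Fin n) K) * (g * C)))))⟩
  rw [mul_assoc, hCs, ← mul_assoc, hgs, mul_assoc]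

/-- The centraliser in `GU` of a semisimple element has all norm-one determinants. -/
theorem gu_centraliser_det (hK : Fintype.card K = q ^ 2) (hn : 0 < n) {A : GL (Fin n) K} (hA : A ∈ Cfsg.GU n K q)
    (hss : Module.End.IsSemisimple (Matrix.toLinAlgEquiv' (A : Matrix (Fin n) (Fin n) K))) {x : K}
    (hx : x ^ (q + 1) = 1) :
    ∃ C : GL (Fin n) K, C ∈ Cfsg.GU n K q ∧ C * A = A * C ∧ (C : Matrix (Fin n) (Fin n) K).det = x := by
  obtain ⟨σ, hσ, hσσ, hq2⟩ := exists_qhom hK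
  have hU := (hermB_isUnitary hK n hσ hσσ hq2).1
  haveI : Nonempty (Fin n) := ⟨⟨0, hn⟩⟩
  obtain ⟨c, hc, hcA, hcd⟩ := exists_unitary_commute_det hU.tf hU.sigma_ne
    (Matrix.toLinAlgEquiv' (A : Matrix (Fin n) (Fin n) K))
    (fun u v => by
      show hermB n σ ((A : Matrix (Fin n) (Fin n) K) *ᵥ u) ((A : Matrix (Fin n) (Fin n) K) *ᵥ v) = _
      rw [hermB_apply hσ, hermB_apply hσ]
      exact hA v u) hss (x := x) (by rw [hσ, ← pow_succ', hx])
  obtain ⟨C, hC, hCv, hCd⟩ := exists_gu_of_isometry hσ c hc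
  refine ⟨C, hC, Units.ext (Matrix.ext_of_mulVec_single fun j => ?_), hCd.trans hcd⟩
  rw [Units.val_mul, Units.val_mul, ← mulVec_mulVec, ← mulVec_mulVec, hCv, hCv]
  exact hcA _

end Cfsg.Agent.FormCentral
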