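import Cfsg.Agent.Lib.FormCentral.Core
import Cfsg.Agent.Lib.Forms.Alt
import Cfsg.Agent.Lib.Forms.Orth

/-!
Semisimple symplectic or odd-order orthogonal isometries are conjugate as soon as they are similar.
-/

set_option autoImplicit false

namespace Cfsg.Agent.FormCentral

open FormsLib

variable {F V W : Type*} [Field F] [AddCommGroup V] [Module F V] [FiniteDimensional F V]
  [AddCommGroup W] [Module F W] [FiniteDimensional F W] {ε : F}

section Split

variable {BV : LinearMap.BilinForm F V}

omit [FiniteDimensional F V] in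
/-- `ker (A - c)` is orthogonal to `range (A - c)`. -/
theorem orth_split (hV : IsTraceForm (RingHom.id F) ε BV) {A : Module.End F V}
    (hA : ∀ u v, BV (A u) (A v) = BV u v) {c : F} (hc : c * c = 1) {x z : V}
    (hx : x ∈ LinearMap.range (A - c • 1)) (hz : z ∈ LinearMap.ker (A - c • 1)) :
    BV x z = 0 ∧ BV z x = 0 := by
  obtain ⟨u, rfl⟩ := hx
  have hz' : A z = c • z := sub_eq_zero.1 hz
  have h1 := hA u z
  rw [hz', map_smul, smul_eq_mul] at h1
  have h2 : BV ((A - c • 1) u) z = 0 := by
    simp only [LinearMap.sub_apply, LinearMap.smul_apply, Module.End.one_apply, map_sub, map_smul, smul_eq_mul]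
    linear_combination c * h1 - BV (A u) z * hc
  exact ⟨h2, by rw [hV.flip, h2, map_zero, mul_zero]⟩

theorem isCompl_split {A : Module.End F V} {c : F} {k : ℕ} (hk : (k : F) ≠ 0) (hck : c ^ k = 1)
    (hAk : A ^ k = 1) : IsCompl (LinearMap.range (A - c • 1)) (LinearMap.ker (A - c • 1)) := by
  have hd : Disjoint (LinearMap.range (A - c • 1)) (LinearMap.ker (A - c • 1)) := by
    rw [Submodule.disjoint_def]
    rintro w ⟨v, rfl⟩ hw
    set w := (A - c • 1) v with hwdef
    have hAw : A w = c • w := sub_eq_zero.1 hw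
    have hAv : A v = c • v + w := by
      rw [hwdef]
      simp
    have key : ∀ j : ℕ, c • (A ^ j) v = c ^ (j + 1) • v + ((j : F) * c ^ j) • w := by
      intro j
      induction j with
      | zero => simp
      | succ j ih =>
        have h := congrArg A ih
        rw [map_smul, ← Module.End.mul_apply, ← pow_succ', map_add, map_smul, map_smul, hAv, hAw] at h
        rw [h]
        push_cast
        module
    have h := key k
    rw [hAk, pow_succ, hck, one_mul, mul_one, Module.End.one_apply, left_eq_add] at h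
    exact (smul_eq_zero.1 h).resolve_left hk
  refine ⟨hd, codisjoint_iff.2 (Submodule.eq_top_of_finrank_eq ?_)⟩
  have h1 := Submodule.finrank_sup_add_finrank_inf_eq (LinearMap.range (A - c • 1)) (LinearMap.ker (A - c • 1))
  rw [hd.eq_bot, finrank_bot, add_zero] at h1
  rw [h1, LinearMap.finrank_range_add_finrank_ker]

omit [FiniteDimensional F V] in
theorem mem_range_sub {A : Module.End F V} (c : F) :
    ∀ x ∈ LinearMap.range (A - c • 1), A x ∈ LinearMap.range (A - c • 1) := by
  rintro _ ⟨u, rfl⟩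
  exact ⟨A u, by simp⟩

omit [FiniteDimensional F V] in
/-- A form restricted to one part of an orthogonal decomposition. -/
theorem trace_restrict (hV : IsTraceForm (RingHom.id F) ε BV) {X Z : Submodule F V} (hc : IsCompl X Z)
    (h : ∀ x ∈ X, ∀ z ∈ Z, BV x z = 0) : IsTraceForm (RingHom.id F) ε (BV.restrict X) where
  invol := hV.invol
  eps := hV.eps
  flip u v := hV.flip u v
  trace u := hV.trace u
  nondeg u hu := Subtype.ext (hV.nondeg (u : V) fun w => by
    obtain ⟨a, ha, b, hb, rfl⟩ := Submodule.mem_sup.1 (hc.sup_eq_top ▸ Submodule.mem_top : w ∈ X ⊔ Z)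
    rw [map_add, h u u.2 b hb, add_zero]
    exact hu ⟨a, ha⟩)

omit [FiniteDimensional F V] [FiniteDimensional F W] in
theorem map_split {A : Module.End F V} {A' : Module.End F W} (P : V ≃ₗ[F] W) (hP : ∀ v, P (A v) = A' (P v))
    (c : F) : (LinearMap.range (A - c • 1)).map (P : V →ₗ[F] W) = LinearMap.range (A' - c • 1) ∧
      (LinearMap.ker (A - c • 1)).map (P : V →ₗ[F] W) = LinearMap.ker (A' - c • 1) := by
  have hcomm : ∀ v, P ((A - c • 1) v) = (A' - c • 1) (P v) := fun v => by simp [hP]
  refine ⟨le_antisymm ?_ ?_, le_antisymm ?_ ?_⟩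
  · rintro _ ⟨_, ⟨u, rfl⟩, rfl⟩
    exact ⟨P u, (hcomm u).symm⟩
  · rintro _ ⟨w, rfl⟩
    obtain ⟨u, rfl⟩ := P.surjective w
    exact ⟨_, ⟨u, rfl⟩, hcomm u⟩
  · rintro _ ⟨u, hu, rfl⟩
    show (A' - c • 1) (P u) = 0
    rw [← hcomm, LinearMap.mem_ker.1 hu, map_zero]
  · intro w hw
    obtain ⟨u, rfl⟩ := P.surjective w
    refine ⟨u, P.injective ?_, rfl⟩
    rw [hcomm, map_zero]
    exact hw

omit [FiniteDimensional F V] [FiniteDimensional F W] in
/-- Glue intertwining isometries on the two parts. -/
theorem exists_glue (hV : IsTraceForm (RingHom.id F) ε BV) {BW : LinearMap.BilinForm F W}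
    (hW : IsTraceForm (RingHom.id F) ε BW) {A : Module.End F V} {A' : Module.End F W} {c : F} (hc2 : c * c = 1)
    (hA : ∀ u v, BV (A u) (A v) = BV u v) (hA' : ∀ u v, BW (A' u) (A' v) = BW u v)
    (hc : IsCompl (LinearMap.range (A - c • 1)) (LinearMap.ker (A - c • 1)))
    (hc' : IsCompl (LinearMap.range (A' - c • 1)) (LinearMap.ker (A' - c • 1)))
    (gX : LinearMap.range (A - c • 1) ≃ₗ[F] LinearMap.range (A' - c • 1))
    (hX : ∀ u v, BW (gX u : W) (gX v : W) = BV (u : V) (v : V))
    (hXA : ∀ x, (gX ⟨A x.1, mem_range_sub c _ x.2⟩ : W) = A' (gX x : W))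
    (gZ : LinearMap.ker (A - c • 1) ≃ₗ[F] LinearMap.ker (A' - c • 1))
    (hZ : ∀ u v, BW (gZ u : W) (gZ v : W) = BV (u : V) (v : V)) :
    ∃ g : V ≃ₗ[F] W, (∀ u v, BW (g u) (g v) = BV u v) ∧ ∀ v, g (A v) = A' (g v) := by
  set e := Submodule.prodEquivOfIsCompl _ _ hc
  set e' := Submodule.prodEquivOfIsCompl _ _ hc'
  refine ⟨e.symm.trans ((gX.prodCongr gZ).trans e'), fun u v => ?_, fun v => ?_⟩
  · obtain ⟨⟨x, z⟩, rfl⟩ := e.surjective u
    obtain ⟨⟨x', z'⟩, rfl⟩ := e.surjective v
    simp only [LinearEquiv.trans_apply, LinearEquiv.symm_apply_apply, LinearEquiv.prodCongr_apply]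
    simp only [e, e', Submodule.coe_prodEquivOfIsCompl', map_add, LinearMap.add_apply]
    rw [hX, hZ, (orth_split hW hA' hc2 (gX x).2 (gZ z').2).1, (orth_split hW hA' hc2 (gX x').2 (gZ z).2).2,
      (orth_split hV hA hc2 x.2 z'.2).1, (orth_split hV hA hc2 x'.2 z.2).2]
  · obtain ⟨⟨x, z⟩, rfl⟩ := e.surjective v
    have h1 : A (e (x, z)) = e (⟨A x.1, mem_range_sub c _ x.2⟩, c • z) := by
      simp [e, show A (z : V) = c • (z : V) from sub_eq_zero.1 z.2]
    rw [h1]
    simp only [LinearEquiv.trans_apply, LinearEquiv.symm_apply_apply, LinearEquiv.prodCongr_apply, e',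
      Submodule.coe_prodEquivOfIsCompl', map_add, map_smul, Submodule.coe_smul, hXA,
      show A' (gZ z : W) = c • (gZ z : W) from sub_eq_zero.1 (gZ z).2]

end Split

variable [Finite F]

/-- No eigenvalue `±1`: similar isometries are isometrically conjugate. -/
theorem exists_isometry_no_pm {BV : LinearMap.BilinForm F V} {BW : LinearMap.BilinForm F W}
    (hV : IsTraceForm (RingHom.id F) ε BV) (hW : IsTraceForm (RingHom.id F) ε BW) (A : Module.End F V)
    (A' : Module.End F W) (hA : ∀ u v, BV (A u) (A v) = BV u v) (hA' : ∀ u v, BW (A' u) (A' v) = BW u v)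
    (P : V ≃ₗ[F] W) (hP : ∀ v, P (A v) = A' (P v)) (h1 : IsUnit (1 - A)) (h2 : IsUnit (1 + A)) :
    ∃ g : V ≃ₗ[F] W, (∀ u v, BW (g u) (g v) = BV u v) ∧ ∀ v, g (A v) = A' (g v) := by
  obtain ⟨u, hu⟩ := h1
  set ζ : Module.End F V := ↑u⁻¹ with hζdef
  have hζl : ζ * (1 - A) = 1 := by rw [← hu]; exact u.inv_mul
  have hζc : ∀ X : Module.End F V, Commute X A → Commute ζ X := fun X hX => by
    have : Commute X (u : Module.End F V) := hu ▸ (Commute.one_right X).sub_right hX
    exact (this.units_inv_right).symm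
  refine exists_isometry_intertwine hV hW A A' hA hA' P hP ζ (1 - ζ) (fun a b => ?_) hζc
    (fun X hX => (Commute.one_left X).sub_left (hζc X hX)) ?_
  · obtain ⟨x, rfl⟩ := ((Module.End.isUnit_iff _).1 u.isUnit).2 a
    obtain ⟨y, rfl⟩ := ((Module.End.isUnit_iff _).1 u.isUnit).2 b
    have e1 : ∀ w, ζ ((u : Module.End F V) w) = w := fun w => by
      rw [← Module.End.mul_apply, hζdef, u.inv_mul, Module.End.one_apply]
    simp only [LinearMap.sub_apply, Module.End.one_apply, e1]
    rw [hu]
    simp only [LinearMap.sub_apply, Module.End.one_apply, map_sub, hA]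
    ring
  · rw [show ζ - (1 - ζ) = ζ * (1 + A) from ?_]
    · exact (u⁻¹).isUnit.mul h2
    · rw [mul_add, mul_one]
      rw [mul_sub, mul_one, sub_eq_iff_eq_add] at hζl
      have : ζ * A = ζ - 1 := by rw [eq_sub_iff_add_eq, add_comm]; exact hζl.symm
      rw [this]
      abel

/-- Alternating non-degenerate spaces of equal dimension are isometric. -/
theorem exists_isometry_alt {BV : LinearMap.BilinForm F V} {BW : LinearMap.BilinForm F W}
    (hV : LinearMap.IsAlt BV) (hVn : LinearMap.Nondegenerate BV) (hW : LinearMap.IsAlt BW)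
    (hWn : LinearMap.Nondegenerate BW) (hd : Module.finrank F V = Module.finrank F W) :
    ∃ g : V ≃ₗ[F] W, ∀ u v, BW (g u) (g v) = BV u v := by
  obtain ⟨m, b, h1, h2, h3⟩ := exists_symplectic_basis_nondeg hV hVn
  obtain ⟨m', b', h1', h2', h3'⟩ := exists_symplectic_basis_nondeg hW hWn
  obtain rfl : m = m' := by
    rw [Module.finrank_eq_card_basis b, Module.finrank_eq_card_basis b'] at hd
    simp at hd
    omega
  refine ⟨b.equiv b' (Equiv.refl _), fun u v => ?_⟩
  have key : BW.compl₁₂ (b.equiv b' (Equiv.refl _)).toLinearMap (b.equiv b' (Equiv.refl _)).toLinearMap = BV := by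
    refine LinearMap.BilinForm.ext_basis b fun i j => ?_
    simp only [LinearMap.compl₁₂_apply, LinearEquiv.coe_coe, Module.Basis.equiv_apply, Equiv.refl_apply]
    rcases i with i | i <;> rcases j with j | j
    · rw [h2, h2']
    · rw [h1, h1']
    · rw [← hV.neg (b (.inl j)) (b (.inr i)), ← hW.neg (b' (.inl j)) (b' (.inr i)), h1, h1']
    · rw [h3, h3']
  exact LinearMap.congr_fun₂ key u v

omit [Finite F] [FiniteDimensional F V] in
theorem nondeg_of_trace {BV : LinearMap.BilinForm F V} (hV : IsTraceForm (RingHom.id F) ε BV) :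
    LinearMap.Nondegenerate BV :=
  ⟨hV.nondeg, fun v hv => hV.nondeg v fun w => by rw [hV.flip, hv w, map_zero, mul_zero]⟩

/-- Semisimple symplectic isometries that are similar are isometrically conjugate. -/
theorem exists_sp_intertwine {BV : LinearMap.BilinForm F V} {BW : LinearMap.BilinForm F W}
    (hV : LinearMap.IsAlt BV) (hVn : LinearMap.Nondegenerate BV) (hW : LinearMap.IsAlt BW)
    (hWn : LinearMap.Nondegenerate BW) (A : Module.End F V) (A' : Module.End F W)
    (hA : ∀ u v, BV (A u) (A v) = BV u v) (hA' : ∀ u v, BW (A' u) (A' v) = BW u v)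
    (P : V ≃ₗ[F] W) (hP : ∀ v, P (A v) = A' (P v)) {k : ℕ} (hk : (k : F) ≠ 0) (hAk : A ^ k = 1) :
    ∃ g : V ≃ₗ[F] W, (∀ u v, BW (g u) (g v) = BV u v) ∧ ∀ v, g (A v) = A' (g v) := by
  obtain ⟨k, hk, hneg, hAk⟩ : ∃ k : ℕ, (k : F) ≠ 0 ∧ (-1 : F) ^ k = 1 ∧ A ^ k = 1 := by
    by_cases h2 : (2 : F) = 0
    · refine ⟨k, hk, ?_, hAk⟩
      rw [neg_eq_of_add_eq_zero_left (by rwa [one_add_one_eq_two] : (1 : F) + 1 = 0), one_pow]
    · exact ⟨2 * k, by push_cast; exact mul_ne_zero h2 hk, by rw [pow_mul, neg_one_sq, one_pow],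
        by rw [mul_comm, pow_mul, hAk, one_pow]⟩
  have hA'k : A' ^ k = 1 := by
    have h : ∀ j v, P ((A ^ j) v) = (A' ^ j) (P v) := by
      intro j
      induction j with
      | zero => intro v; rfl
      | succ j ih => intro v; rw [pow_succ', pow_succ', Module.End.mul_apply, hP, ih]; rfl
    refine LinearMap.ext fun w => ?_
    obtain ⟨v, rfl⟩ := P.surjective w
    rw [← h, hAk]
    rfl
  have hVt := isTraceForm_of_isAlt hV hVn
  have hWt := isTraceForm_of_isAlt hW hWn
  have hc := isCompl_split hk (one_pow k) hAk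
  have hc' := isCompl_split hk (one_pow k) hA'k
  set X := LinearMap.range (A - (1 : F) • 1) with hXdef
  set X' := LinearMap.range (A' - (1 : F) • 1) with hX'def
  set Z := LinearMap.ker (A - (1 : F) • 1) with hZdef
  set Z' := LinearMap.ker (A' - (1 : F) • 1) with hZ'def
  have hXt := trace_restrict hVt hc fun x hx z hz => (orth_split hVt hA (one_mul 1) hx hz).1
  have hX't := trace_restrict hWt hc' fun x hx z hz => (orth_split hWt hA' (one_mul 1) hx hz).1
  have hZt := trace_restrict hVt hc.symm fun z hz x hx => (orth_split hVt hA (one_mul 1) hx hz).2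
  have hZ't := trace_restrict hWt hc'.symm fun z hz x hx => (orth_split hWt hA' (one_mul 1) hx hz).2
  obtain ⟨gZ, hgZ⟩ := exists_isometry_alt (BV := BV.restrict Z) (BW := BW.restrict Z') (fun v => hV v)
    (nondeg_of_trace hZt) (fun v => hW v) (nondeg_of_trace hZ't)
    (by rw [hZdef, hZ'def, ← (map_split P hP 1).2]; exact (P.submoduleMap _).finrank_eq)
  let AX : Module.End F X := A.restrict (mem_range_sub 1)
  let AX' : Module.End F X' := A'.restrict (mem_range_sub 1)
  let PX : X ≃ₗ[F] X' := P.ofSubmodules X X' (map_split P hP 1).1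
  have hPX : ∀ x, PX (AX x) = AX' (PX x) := fun x => Subtype.ext (hP x)
  have hAX : ∀ u v, BV.restrict X (AX u) (AX v) = BV.restrict X u v := fun u v => hA u v
  have hAX' : ∀ u v, BW.restrict X' (AX' u) (AX' v) = BW.restrict X' u v := fun u v => hA' u v
  have hAXk : AX ^ k = 1 := by
    refine LinearMap.ext fun x => Subtype.ext ?_
    rw [Module.End.pow_restrict k, LinearMap.restrict_coe_apply, hAk]
    rfl
  have hAX'k : AX' ^ k = 1 := by
    refine LinearMap.ext fun x => Subtype.ext ?_
    rw [Module.End.pow_restrict k, LinearMap.restrict_coe_apply, hA'k]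
    rfl
  -- second splitting at `-1`
  have hd := isCompl_split hk hneg hAXk
  have hd' := isCompl_split hk hneg hAX'k
  have hm : (-1 : F) * -1 = 1 := by ring
  have hYt := trace_restrict hXt hd fun x hx z hz => (orth_split hXt hAX hm hx hz).1
  have hY't := trace_restrict hX't hd' fun x hx z hz => (orth_split hX't hAX' hm hx hz).1
  have hNt := trace_restrict hXt hd.symm fun z hz x hx => (orth_split hXt hAX hm hx hz).2
  have hN't := trace_restrict hX't hd'.symm fun z hz x hx => (orth_split hX't hAX' hm hx hz).2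
  obtain ⟨gN, hgN⟩ := exists_isometry_alt (BV := (BV.restrict X).restrict (LinearMap.ker (AX - (-1 : F) • 1)))
    (BW := (BW.restrict X').restrict (LinearMap.ker (AX' - (-1 : F) • 1))) (fun v => hV _)
    (nondeg_of_trace hNt) (fun v => hW _) (nondeg_of_trace hN't)
    (by rw [← (map_split PX hPX (-1)).2]; exact (PX.submoduleMap _).finrank_eq)
  let AY : Module.End F (LinearMap.range (AX - (-1 : F) • 1)) := AX.restrict (mem_range_sub (-1))
  have hu1 : IsUnit (1 - AY) := by
    rw [Module.End.isUnit_iff]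
    have hinj : Function.Injective ⇑(1 - AY) := by
      refine LinearMap.ker_eq_bot.1 (LinearMap.ker_eq_bot'.2 fun y hy => Subtype.ext (Subtype.ext ?_))
      have hy' : ((y : X) : V) - A (y : X) = 0 := congrArg Subtype.val (congrArg Subtype.val hy :)
      refine Submodule.disjoint_def.1 hc.disjoint _ (y : X).2 ?_
      rw [LinearMap.mem_ker]
      simp only [LinearMap.sub_apply, one_smul, Module.End.one_apply]
      rw [← neg_sub, hy', neg_zero]
    exact ⟨hinj, LinearMap.injective_iff_surjective.1 hinj⟩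
  have hu2 : IsUnit (1 + AY) := by
    rw [Module.End.isUnit_iff]
    have hinj : Function.Injective ⇑(1 + AY) := by
      refine LinearMap.ker_eq_bot.1 (LinearMap.ker_eq_bot'.2 fun y hy => Subtype.ext ?_)
      have hy' : (y : X) + AX (y : X) = 0 := congrArg Subtype.val hy
      refine Submodule.disjoint_def.1 hd.disjoint _ y.2 ?_
      rw [LinearMap.mem_ker]
      simp only [LinearMap.sub_apply, LinearMap.smul_apply, neg_smul, one_smul, LinearMap.neg_apply, Module.End.one_apply, sub_neg_eq_add]
      rw [add_comm, hy']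
    exact ⟨hinj, LinearMap.injective_iff_surjective.1 hinj⟩
  obtain ⟨gY, hgY, hgYA⟩ := exists_isometry_no_pm hYt hY't AY (AX'.restrict (mem_range_sub (-1)))
    (fun u v => hAX u v) (fun u v => hAX' u v) (PX.ofSubmodules _ _ (map_split PX hPX (-1)).1)
    (fun v => Subtype.ext (hPX v)) hu1 hu2
  obtain ⟨gX, hgX, hgXA⟩ := exists_glue hXt hX't hm hAX hAX' hd hd' gY hgY
    (fun x => congrArg Subtype.val (hgYA x)) gN hgN
  exact exists_glue hVt hWt (one_mul 1) hA hA' hc hc' gX hgX
    (fun x => congrArg Subtype.val (hgXA x)) gZ hgZ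

/-- Odd-order semisimple orthogonal isometries that are similar are isometrically conjugate. -/
theorem exists_orth_intertwine {Q : QuadraticForm F V} (hQ : (QuadraticMap.polarBilin Q).Nondegenerate)
    (A A' : Module.End F V) (hA : ∀ v, Q (A v) = Q v) (hA' : ∀ v, Q (A' v) = Q v)
    (P : V ≃ₗ[F] V) (hP : ∀ v, P (A v) = A' (P v)) {k : ℕ} (hko : Odd k) (hk : (k : F) ≠ 0) (hAk : A ^ k = 1) :
    ∃ g : V ≃ₗ[F] V, (∀ v, Q (g v) = Q v) ∧ ∀ v, g (A v) = A' (g v) := by
  set B : LinearMap.BilinForm F V := QuadraticMap.polarBilin Q with hB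
  have hBt : IsTraceForm (RingHom.id F) 1 B := isTraceForm_polar Q hQ
  have hBA : ∀ u v, B (A u) (A v) = B u v := fun u v => by
    simp only [hB, QuadraticMap.polarBilin_apply_apply, QuadraticMap.polar, ← map_add, hA]
  have hBA' : ∀ u v, B (A' u) (A' v) = B u v := fun u v => by
    simp only [hB, QuadraticMap.polarBilin_apply_apply, QuadraticMap.polar, ← map_add, hA']
  have hA'k : A' ^ k = 1 := by
    have h : ∀ j v, P ((A ^ j) v) = (A' ^ j) (P v) := by
      intro j
      induction j with
      | zero => intro v; rfl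
      | succ j ih => intro v; rw [pow_succ', pow_succ', Module.End.mul_apply, hP, ih]; rfl
    refine LinearMap.ext fun w => ?_
    obtain ⟨v, rfl⟩ := P.surjective w
    rw [← h, hAk]
    rfl
  have hc := isCompl_split hk (one_pow k) hAk
  have hc' := isCompl_split hk (one_pow k) hA'k
  set X := LinearMap.range (A - (1 : F) • 1)
  set X' := LinearMap.range (A' - (1 : F) • 1)
  have hXt := trace_restrict hBt hc fun x hx z hz => (orth_split hBt hBA (one_mul 1) hx hz).1
  have hX't := trace_restrict hBt hc' fun x hx z hz => (orth_split hBt hBA' (one_mul 1) hx hz).1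
  let AX : Module.End F X := A.restrict (mem_range_sub 1)
  have hinj : Function.Injective ⇑(1 - AX) := by
    refine LinearMap.ker_eq_bot.1 (LinearMap.ker_eq_bot'.2 fun y hy => Subtype.ext ?_)
    have hy' : (y : V) - A y = 0 := congrArg Subtype.val hy
    refine Submodule.disjoint_def.1 hc.disjoint _ y.2 ?_
    rw [LinearMap.mem_ker]
    simp only [LinearMap.sub_apply, one_smul, Module.End.one_apply]
    rw [← neg_sub, hy', neg_zero]
  have hsur : Function.Surjective ⇑(1 - AX) := LinearMap.injective_iff_surjective.1 hinj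
  have hu2 : IsUnit (1 + AX) := by
    rw [Module.End.isUnit_iff]
    have hi : Function.Injective ⇑(1 + AX) := by
      refine LinearMap.ker_eq_bot.1 (LinearMap.ker_eq_bot'.2 fun y hy => ?_)
      have hy' : A (y : V) = -(y : V) := eq_neg_of_add_eq_zero_right (congrArg Subtype.val hy)
      have hj : ∀ j, (A ^ j) (y : V) = (-1 : F) ^ j • (y : V) := by
        intro j
        induction j with
        | zero => simp
        | succ j ih => rw [pow_succ', Module.End.mul_apply, ih, map_smul, hy', pow_succ, mul_smul]; simp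
      have h := hj k
      rw [hAk, hko.neg_one_pow, neg_one_smul, Module.End.one_apply] at h
      by_cases h2 : (2 : F) = 0
      · refine hinj ?_
        rw [map_zero]
        refine Subtype.ext ?_
        show (y : V) - A y = 0
        rw [hy', sub_neg_eq_add, ← two_smul F (y : V), h2, zero_smul]
      · refine Subtype.ext ((smul_eq_zero.1 (?_ : (2 : F) • (y : V) = 0)).resolve_left h2)
        rw [two_smul]
        exact eq_neg_iff_add_eq_zero.1 h
    exact ⟨hi, LinearMap.injective_iff_surjective.1 hi⟩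
  obtain ⟨gX, hgX, hgXA⟩ := exists_isometry_no_pm hXt hX't AX (A'.restrict (mem_range_sub 1))
    (fun u v => hBA u v) (fun u v => hBA' u v) (P.ofSubmodules X X' (map_split P hP 1).1)
    (fun v => Subtype.ext (hP v)) ((Module.End.isUnit_iff _).2 ⟨hinj, hsur⟩) hu2
  have hgA : ∀ x : X, (gX (AX x) : V) = A' (gX x) := fun x => congrArg Subtype.val (hgXA x)
  have hQX : ∀ x : X, Q (gX x : V) = Q (x : V) := by
    set L : X → F := fun x => Q (gX x : V) - Q (x : V) with hL
    have hadd : ∀ x y, L (x + y) = L x + L y := by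
      intro x y
      have h1 : QuadraticMap.polar Q (gX x : V) (gX y) = QuadraticMap.polar Q (x : V) y := hgX x y
      simp only [QuadraticMap.polar] at h1
      simp only [hL, map_add, Submodule.coe_add]
      linear_combination h1
    have hinv : ∀ x, L (AX x) = L x := fun x => by
      simp only [hL, hgA, hA']
      rw [show ((AX x : X) : V) = A x from rfl, hA]
    intro x
    obtain ⟨w, rfl⟩ := hsur x
    have h : L w = L ((1 - AX) w) + L (AX w) := by
      rw [← hadd, LinearMap.sub_apply, Module.End.one_apply, sub_add_cancel]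
    rw [hinv, right_eq_add] at h
    exact sub_eq_zero.1 h
  obtain ⟨g, hg, hgx⟩ := quad_witt hQ X ((Submodule.subtype X').comp (gX : X →ₗ[F] X'))
    (Subtype.val_injective.comp gX.injective) hQX
  refine ⟨g, hg, fun v => ?_⟩
  obtain ⟨x, hx, z, hz, rfl⟩ := Submodule.mem_sup.1 (hc.sup_eq_top ▸ Submodule.mem_top : v ∈ X ⊔ _)
  have hAz : A z = z := by simpa using sub_eq_zero.1 hz
  have hgz : A' (g z) = g z := by
    obtain ⟨x', hx', z', hz', he⟩ := Submodule.mem_sup.1 (hc'.sup_eq_top ▸ Submodule.mem_top : g z ∈ X' ⊔ _)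
    have hx0 : (⟨x', hx'⟩ : X') = 0 := by
      refine hX't.nondeg _ fun y => ?_
      obtain ⟨y, rfl⟩ := gX.surjective y
      show B x' (gX y : V) = 0
      have h1 : B (g z) (gX y : V) = 0 := by
        rw [show (gX y : V) = g (y : V) from (hgx y).symm, hB, QuadraticMap.polarBilin_apply_apply, polar_of_mem hg]
        exact (orth_split hBt hBA (one_mul 1) y.2 hz).2
      rw [← he, map_add, LinearMap.add_apply, (orth_split hBt hBA' (one_mul 1) (gX y).2 hz').2, add_zero] at h1
      exact h1
    have : x' = 0 := congrArg Subtype.val hx0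
    rw [← he, this, zero_add]
    simpa using sub_eq_zero.1 hz'
  rw [map_add, map_add, hAz, map_add, map_add, hgz]
  congr 1
  have h1 := hgx (AX ⟨x, hx⟩)
  have h2 := hgx ⟨x, hx⟩
  simp only [LinearMap.comp_apply, Submodule.subtype_apply, LinearEquiv.coe_coe, hgA] at h1 h2
  rw [h2]
  exact h1

end Cfsg.Agent.FormCentral
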