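import Cfsg.Agent.Lib.FormCentral.NormRing
import Cfsg.Agent.Lib.Forms.Witt

/-!
Isometries are conjugate by an isometry as soon as they are similar, provided the commutant carries a central
"norm quadratic" element.
-/

set_option autoImplicit false

namespace Cfsg.Agent.FormCentral

open FormsLib

variable {F V W : Type*} [Field F] [AddCommGroup V] [Module F V] [FiniteDimensional F V]
  [AddCommGroup W] [Module F W] {σ : F →+* F} {ε : F}
  {BV : V →ₛₗ[σ] V →ₗ[F] F} {BW : W →ₛₗ[σ] W →ₗ[F] F}

omit [FiniteDimensional F V] in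
theorem eq_of_pairing (hV : IsTraceForm σ ε BV) {x y : V} (h : ∀ v, BV x v = BV y v) : x = y :=
  sub_eq_zero.1 (hV.nondeg _ fun v => by rw [map_sub, LinearMap.sub_apply, h, sub_self])

omit [FiniteDimensional F V] in
theorem adjoint_symm (hV : IsTraceForm σ ε BV) {x y : Module.End F V}
    (h : ∀ u v, BV (x u) v = BV u (y v)) (u v : V) : BV (y u) v = BV u (x v) := by
  rw [hV.flip v (y u), ← h, ← hV.flip]

omit [FiniteDimensional F V] in
theorem commute_of_pairing (hV : IsTraceForm σ ε BV) {A X : Module.End F V} (hsur : Function.Surjective A)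
    (hA : ∀ u v, BV (A u) (A v) = BV u v) (h : ∀ u v, BV (X (A u)) (A v) = BV (X u) v) : Commute X A := by
  refine LinearMap.ext fun u => eq_of_pairing hV fun v => ?_
  obtain ⟨w, rfl⟩ := hsur v
  show BV (X (A u)) (A w) = BV (A (X u)) (A w)
  rw [h, hA]

/-- Adjoints of bounded forms: a second sesquilinear pairing is represented by an endomorphism. -/
theorem exists_represent (hV : IsTraceForm σ ε BV) (P : V →ₗ[F] W) :
    ∃ T : Module.End F V, ∀ u v, BV (T u) v = BW (P u) (P v) := by
  choose f hf using fun u : V => hV.exists_rep ((BW (P u)).comp P)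
  have key : ∀ u v, BV (f u) v = BW (P u) (P v) := fun u v => by rw [hf u]; rfl
  refine ⟨{ toFun := f
            map_add' := fun a b => eq_of_pairing hV fun v => by
              simp only [map_add, LinearMap.add_apply, key]
            map_smul' := fun c a => eq_of_pairing hV fun v => by
              simp only [map_smulₛₗ, RingHom.id_apply, LinearMap.smul_apply, key] }, key⟩

variable [Finite F]

/-- **Similar isometries are isometrically conjugate** given a central element `ζ` with adjoint `η`
such that `ζ - η` is invertible. -/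
theorem exists_isometry_intertwine (hV : IsTraceForm σ ε BV) (hW : IsTraceForm σ ε BW)
    (A : Module.End F V) (A' : Module.End F W) (hA : ∀ u v, BV (A u) (A v) = BV u v)
    (hA' : ∀ u v, BW (A' u) (A' v) = BW u v) (P : V ≃ₗ[F] W) (hP : ∀ v, P (A v) = A' (P v))
    (ζ η : Module.End F V) (hadj : ∀ u v, BV (ζ u) v = BV u (η v))
    (hζ : ∀ X : Module.End F V, Commute X A → Commute ζ X)
    (hη : ∀ X : Module.End F V, Commute X A → Commute η X) (hd : IsUnit (ζ - η)) :
    ∃ g : V ≃ₗ[F] W, (∀ u v, BW (g u) (g v) = BV u v) ∧ ∀ v, g (A v) = A' (g v) := by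
  classical
  have hinjA : Function.Injective A := fun a b hab =>
    eq_of_pairing hV fun v => by rw [← hA a v, hab, hA]
  have hsurA : Function.Surjective A := LinearMap.injective_iff_surjective.1 hinjA
  obtain ⟨T, hT⟩ := exists_represent (BW := BW) hV (P : V →ₗ[F] W)
  simp only [LinearEquiv.coe_coe] at hT
  have hTA : Commute T A := commute_of_pairing hV hsurA hA fun u v => by
    rw [hT, hT, hP, hP, hA']
  have hTs : ∀ u v, BV (T u) v = BV u (T v) := fun u v => by
    rw [hT, hW.flip (P v) (P u), ← hT, ← hV.flip]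
  have hTinj : Function.Injective T := fun a b hab => P.injective (eq_of_pairing hW fun w => by
    obtain ⟨v, rfl⟩ := P.surjective w
    rw [← hT, hab, hT])
  have hζη : Commute ζ η := hζ η (hη A (Commute.refl A))
  have hζA : Commute ζ A := hζ A (Commute.refl A)
  have hηA : Commute η A := hη A (Commute.refl A)
  set s : Set (Module.End F V) := {T, ζ + η, ζ * η} with hs
  have hcomm : ∀ a ∈ s, ∀ b ∈ s, a * b = b * a := by
    have h1 : Commute T (ζ + η) := ((hζ T hTA).symm).add_right (hη T hTA).symm
    have h2 : Commute T (ζ * η) := ((hζ T hTA).symm).mul_right (hη T hTA).symm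
    have h3 : Commute (ζ + η) (ζ * η) := ((Commute.refl ζ).mul_right hζη).add_left
      (hζη.symm.mul_right (Commute.refl η))
    intro a ha b hb
    simp only [hs, Set.mem_insert_iff, Set.mem_singleton_iff] at ha hb
    rcases ha with rfl | rfl | rfl <;> rcases hb with rfl | rfl | rfl <;>
      first | rfl | exact h1.eq | exact h1.eq.symm | exact h2.eq | exact h2.eq.symm | exact h3.eq |
        exact h3.eq.symm
  set R := Subring.closure s with hR
  letI : CommRing R := Subring.closureCommRingOfComm hcomm
  have hgood : ∀ x ∈ R, (∀ u v, BV (x u) v = BV u (x v)) ∧ Commute x A ∧ Commute x ζ ∧ Commute x η := by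
    intro x hx
    induction hx using Subring.closure_induction with
    | mem x hx =>
      simp only [hs, Set.mem_insert_iff, Set.mem_singleton_iff] at hx
      rcases hx with rfl | rfl | rfl
      · exact ⟨hTs, hTA, (hζ _ hTA).symm, (hη _ hTA).symm⟩
      · refine ⟨fun u v => ?_, hζA.add_left hηA, (Commute.refl ζ).add_left hζη.symm,
          hζη.add_left (Commute.refl η)⟩
        simp only [LinearMap.add_apply, map_add, hadj, adjoint_symm hV hadj]
        ring
      · refine ⟨fun u v => ?_, hζA.mul_left hηA, (Commute.refl ζ).mul_left hζη.symm,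
          hζη.mul_left (Commute.refl η)⟩
        show BV (ζ (η u)) v = BV u (ζ (η v))
        rw [hadj, adjoint_symm hV hadj]
    | zero => exact ⟨fun u v => by simp, Commute.zero_left _, Commute.zero_left _, Commute.zero_left _⟩
    | one => exact ⟨fun u v => rfl, Commute.one_left _, Commute.one_left _, Commute.one_left _⟩
    | add x y _ _ hx hy =>
      exact ⟨fun u v => by simp [hx.1, hy.1], hx.2.1.add_left hy.2.1, hx.2.2.1.add_left hy.2.2.1,
        hx.2.2.2.add_left hy.2.2.2⟩
    | neg x _ hx =>
      exact ⟨fun u v => by simp [hx.1], hx.2.1.neg_left, hx.2.2.1.neg_left, hx.2.2.2.neg_left⟩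
    | mul x y hx' hy' hx hy =>
      refine ⟨fun u v => ?_, hx.2.1.mul_left hy.2.1, hx.2.2.1.mul_left hy.2.2.1,
        hx.2.2.2.mul_left hy.2.2.2⟩
      have hxy : x * y = y * x :=
        congrArg Subtype.val (mul_comm (⟨x, hx'⟩ : R) ⟨y, hy'⟩)
      show BV (x (y u)) v = BV u ((x * y) v)
      rw [hx.1, hy.1, hxy]
      rfl
  haveI : Finite V := Module.finite_of_finite F
  haveI : Finite (Module.End F V) := Module.finite_of_finite F
  have hunit : ∀ x : R, Function.Injective (x : Module.End F V) → IsUnit x := by
    intro x hx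
    have hinj : Function.Injective fun r : R => x * r := fun r r' hrr => Subtype.ext (LinearMap.ext fun v =>
      hx (LinearMap.congr_fun (congrArg Subtype.val hrr) v))
    obtain ⟨r, hr⟩ := Finite.surjective_of_injective hinj 1
    exact IsUnit.of_mul_eq_one r hr
  let τ : R := ⟨ζ + η, Subring.subset_closure (by simp [hs])⟩
  let ν : R := ⟨ζ * η, Subring.subset_closure (by simp [hs])⟩
  let θ : R := ⟨T, Subring.subset_closure (by simp [hs])⟩
  have hdisc : ((τ ^ 2 - 4 * ν : R) : Module.End F V) = (ζ - η) * (ζ - η) := by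
    show (ζ + η) ^ 2 - 4 * (ζ * η) = _
    rw [sq, add_mul, mul_add, mul_add, sub_mul, mul_sub, mul_sub, hζη.eq,
      show (4 : Module.End F V) * (η * ζ) = η * ζ + η * ζ + η * ζ + η * ζ by noncomm_ring]
    noncomm_ring
  obtain ⟨a, b, hab⟩ := exists_rep (t := τ) (n := ν) (hunit _ (by
      rw [hdisc]
      exact ((Module.End.isUnit_iff _).1 (hd.mul hd)).1)) (hunit θ hTinj)
  obtain ⟨ha, haA, haζ, haη⟩ := hgood a a.2
  obtain ⟨hb, hbA, hbζ, hbη⟩ := hgood b b.2
  have hab' : (a : Module.End F V) * b = b * a := congrArg Subtype.val (mul_comm a b)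
  set a' : Module.End F V := (a : Module.End F V)
  set b' : Module.End F V := (b : Module.End F V)
  set S : Module.End F V := a' + ζ * b' with hS
  set S' : Module.End F V := a' + η * b' with hS'
  have hSS : S' * S = T := by
    have h : a' ^ 2 + (ζ + η) * a' * b' + ζ * η * b' ^ 2 = T := congrArg Subtype.val hab
    rw [← h, hS, hS']
    calc (a' + η * b') * (a' + ζ * b')
        = a' * a' + a' * ζ * b' + η * (b' * a') + η * (b' * ζ) * b' := by noncomm_ring
      _ = a' ^ 2 + (ζ + η) * a' * b' + ζ * η * b' ^ 2 := by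
        rw [haζ.eq, ← hab', hbζ.eq, hζη.eq]
        noncomm_ring
  have hSadj : ∀ u v, BV (S u) v = BV u (S' v) := fun u v => by
    show BV (a' u + ζ (b' u)) v = BV u (a' v + η (b' v))
    rw [map_add, LinearMap.add_apply, map_add, ha, hadj, hb,
      show b' (η v) = η (b' v) from LinearMap.congr_fun hbη.eq v]
  have hSinj : Function.Injective S := fun x y hxy => hTinj (by
    rw [← hSS]
    exact congrArg S' hxy)
  have hSA : Commute S A := haA.add_left (hζA.mul_left hbA)
  let Se : V ≃ₗ[F] V := LinearEquiv.ofBijective S ⟨hSinj, LinearMap.injective_iff_surjective.1 hSinj⟩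
  have hSe : ∀ v, Se v = S v := fun v => rfl
  refine ⟨Se.symm.trans P, fun u v => ?_, fun v => ?_⟩
  · obtain ⟨u, rfl⟩ := Se.surjective u
    obtain ⟨v, rfl⟩ := Se.surjective v
    simp only [LinearEquiv.trans_apply, LinearEquiv.symm_apply_apply]
    rw [hSe, hSe, hSadj, ← Module.End.mul_apply, hSS, ← hT, hTs]
  · obtain ⟨v, rfl⟩ := Se.surjective v
    have h : A (Se v) = Se (A v) := LinearMap.congr_fun hSA.eq.symm v
    simp only [LinearEquiv.trans_apply, LinearEquiv.symm_apply_apply]
    rw [h, LinearEquiv.symm_apply_apply, hP]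

end Cfsg.Agent.FormCentral
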