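import Mathlib

/-!
Binary forms `a² + t a b + n b²` with unit discriminant represent every unit of a finite commutative ring.
-/

set_option autoImplicit false

namespace Cfsg.Agent.FormCentral

open Polynomial in
theorem exists_rep_field {K : Type*} [Field K] [Finite K] {t n : K} (h : t ^ 2 - 4 * n ≠ 0) (y : K) :
    ∃ a b : K, a ^ 2 + t * a * b + n * b ^ 2 = y := by
  classical
  letI := Fintype.ofFinite K
  by_cases h2 : ringChar K = 2
  · obtain ⟨a, ha⟩ := FiniteField.isSquare_of_char_two h2 y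
    exact ⟨a, 0, by rw [ha]; ring⟩
  · have h20 : (2 : K) ≠ 0 := Ring.two_ne_zero h2
    have hd : -(t ^ 2 - 4 * n) ≠ 0 := neg_ne_zero.2 h
    obtain ⟨x, b, hxb⟩ := FiniteField.exists_root_sum_quadratic
      (f := X ^ 2) (g := C (-(t ^ 2 - 4 * n)) * X ^ 2 + C (0 : K) * X + C (-(4 * y))) (degree_X_pow 2)
      (degree_quadratic hd) (FiniteField.odd_card_of_char_ne_two h2)
    simp only [eval_pow, eval_X, eval_add, eval_mul, eval_C, zero_mul, add_zero] at hxb
    refine ⟨(x - t * b) / 2, b, ?_⟩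
    field_simp
    linear_combination hxb

variable {R : Type*} [CommRing R] {t n : R}

theorem rep_mul (a b c d : R) :
    (a ^ 2 + t * a * b + n * b ^ 2) * (c ^ 2 + t * c * d + n * d ^ 2) =
      (a * c - n * b * d) ^ 2 + t * (a * c - n * b * d) * (a * d + b * c + t * b * d) +
        n * (a * d + b * c + t * b * d) ^ 2 := by
  ring

theorem exists_rep_one_add (h : IsUnit (t ^ 2 - 4 * n)) :
    ∀ (k : ℕ) (i : R), i ^ 2 ^ k = 0 → ∃ a b : R, a ^ 2 + t * a * b + n * b ^ 2 = 1 + i
  | 0, i, hi => ⟨1, 0, by rw [pow_zero, pow_one] at hi; rw [hi]; ring⟩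
  | k + 1, i, hi => by
    obtain ⟨e, he⟩ := h.exists_right_inv
    set α := -(2 * n * e) with hα
    set β := t * e with hβ
    have h1 : 2 * α + t * β = 1 := by rw [hα, hβ]; linear_combination he
    set c := α ^ 2 + t * α * β + n * β ^ 2
    have hN : (1 + α * i) ^ 2 + t * (1 + α * i) * (β * i) + n * (β * i) ^ 2 = 1 + i + i ^ 2 * c := by
      linear_combination i * h1
    have hnil : IsNilpotent (i + i ^ 2 * c) := by
      rw [show i + i ^ 2 * c = i * (1 + i * c) by ring]
      exact (Commute.all _ _).isNilpotent_mul_right ⟨_, hi⟩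
    obtain ⟨u, hu⟩ := hnil.isUnit_one_add.exists_right_inv
    obtain ⟨a, b, hab⟩ := exists_rep_one_add h k (-(i ^ 2 * c * u)) (by
      rw [neg_pow, mul_pow, mul_pow, ← pow_mul, ← pow_succ', hi]
      ring)
    refine ⟨_, _, (rep_mul (1 + α * i) (β * i) a b).symm.trans ?_⟩
    rw [hN, hab]
    linear_combination (-i ^ 2 * c) * hu

/-- A binary form with unit discriminant represents every unit. -/
theorem exists_rep [Finite R] (h : IsUnit (t ^ 2 - 4 * n)) {y : R} (hy : IsUnit y) :
    ∃ a b : R, a ^ 2 + t * a * b + n * b ^ 2 = y := by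
  classical
  have hloc : ∀ I : MaximalSpectrum R, ∃ a b : R ⧸ I.asIdeal, a ^ 2 + Ideal.Quotient.mk I.asIdeal t * a * b +
      Ideal.Quotient.mk I.asIdeal n * b ^ 2 = Ideal.Quotient.mk I.asIdeal y := by
    intro I
    haveI := I.isMaximal
    letI := Ideal.Quotient.field I.asIdeal
    haveI : Finite (R ⧸ I.asIdeal) := Finite.of_surjective _ Ideal.Quotient.mk_surjective
    refine exists_rep_field ?_ _
    have := (h.map (Ideal.Quotient.mk I.asIdeal)).ne_zero
    simpa only [map_sub, map_pow, map_mul, map_ofNat] using this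
  choose a b hab using hloc
  haveI : Finite (MaximalSpectrum R) := inferInstance
  obtain ⟨A, hA⟩ := Ideal.pi_quotient_surjective
    (I := fun I : MaximalSpectrum R => I.asIdeal)
    (fun I J hIJ => Ideal.isCoprime_iff_sup_eq.2 (Ideal.IsMaximal.coprime_of_ne I.isMaximal J.isMaximal
      (fun e => hIJ (MaximalSpectrum.ext e)))) a
  obtain ⟨B, hB⟩ := Ideal.pi_quotient_surjective
    (I := fun I : MaximalSpectrum R => I.asIdeal)
    (fun I J hIJ => Ideal.isCoprime_iff_sup_eq.2 (Ideal.IsMaximal.coprime_of_ne I.isMaximal J.isMaximal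
      (fun e => hIJ (MaximalSpectrum.ext e)))) b
  set N := A ^ 2 + t * A * B + n * B ^ 2 with hN
  have hmem : ∀ J : Ideal R, J.IsMaximal → N - y ∈ J := by
    intro J hJ
    have h1 := hab ⟨J, hJ⟩
    rw [← hA ⟨J, hJ⟩, ← hB ⟨J, hJ⟩] at h1
    rw [← Ideal.Quotient.eq, hN]
    simpa only [map_add, map_mul, map_pow] using h1
  have hnil : IsNilpotent (N - y) := by
    rw [← mem_nilradical, nilradical_eq_sInf, Submodule.mem_sInf]
    intro J hJ
    haveI : Ideal.IsPrime J := hJ
    exact hmem J (IsArtinianRing.isMaximal_of_isPrime J)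
  have hNu : IsUnit N := by
    rw [show N = y + (N - y) by ring]
    exact hnil.isUnit_add_left_of_commute hy (Commute.all _ _)
  obtain ⟨z, hz⟩ := hNu.exists_right_inv
  obtain ⟨j, hj⟩ := hnil
  obtain ⟨c, d, hcd⟩ := exists_rep_one_add h j (-((N - y) * z)) (by
    rw [neg_pow, mul_pow, pow_eq_zero_of_le Nat.lt_two_pow_self.le hj]
    ring)
  refine ⟨_, _, (rep_mul A B c d).symm.trans ?_⟩
  rw [hcd, ← hN]
  linear_combination (y - N) * hz

end Cfsg.Agent.FormCentral
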