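import Cfsg.Agent.Lib.FormCentral.Bilin
import Cfsg.Agent.Lib.Forms.Sp

/-!
Matrix form of conjugacy of semisimple symplectic elements.
-/

set_option autoImplicit false

namespace Cfsg.Agent.FormCentral

open FormsLib Matrix

variable {F : Type*} [Field F] [Fintype F] {m : ℕ}

theorem sp_isConj_of_intertwine {p : ℕ} [Fact p.Prime] [CharP F p] (A B : Matrix.symplecticGroup (Fin m) F)
    (hA : (orderOf A).Coprime p) (P : (Fin m ⊕ Fin m → F) ≃ₗ[F] (Fin m ⊕ Fin m → F))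
    (hP : ∀ v, P ((A : Matrix (Fin m ⊕ Fin m) (Fin m ⊕ Fin m) F) *ᵥ v) =
      (B : Matrix (Fin m ⊕ Fin m) (Fin m ⊕ Fin m) F) *ᵥ P v) : IsConj A B := by
  have hk : ((orderOf A : ℕ) : F) ≠ 0 := by
    rw [Ne, CharP.cast_eq_zero_iff F p]
    exact fun h => (Fact.out : p.Prime).not_dvd_one (hA ▸ Nat.dvd_gcd h dvd_rfl)
  have hAk : (Matrix.toLinAlgEquiv' (A : Matrix (Fin m ⊕ Fin m) (Fin m ⊕ Fin m) F)) ^ orderOf A = 1 := by
    rw [← map_pow, show ((A : Matrix (Fin m ⊕ Fin m) (Fin m ⊕ Fin m) F)) ^ orderOf A = 1 from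
      (SubmonoidClass.coe_pow A _).symm.trans (congrArg Subtype.val (pow_orderOf_eq_one A)), map_one]
  have hiso : ∀ X : Matrix.symplecticGroup (Fin m) F, ∀ u v,
      spB m F ((X : Matrix (Fin m ⊕ Fin m) (Fin m ⊕ Fin m) F) *ᵥ u)
        ((X : Matrix (Fin m ⊕ Fin m) (Fin m ⊕ Fin m) F) *ᵥ v) = spB m F u v := fun X u v => by
    have h := (spEquiv m F X).2 u v
    rw [spEquiv_apply, spEquiv_apply] at h
    exact h
  obtain ⟨g, hg, hgA⟩ := exists_sp_intertwine spB_alt spB_nondeg spB_alt spB_nondeg _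
    (Matrix.toLinAlgEquiv' (B : Matrix (Fin m ⊕ Fin m) (Fin m ⊕ Fin m) F)) (hiso A) (hiso B) P hP hk hAk
  refine isConj_iff.2 ⟨(spEquiv m F).symm ⟨g, hg⟩, ?_⟩
  rw [mul_inv_eq_iff_eq_mul]
  refine Subtype.ext (Matrix.ext_of_mulVec_single fun j => ?_)
  rw [Submonoid.coe_mul, Submonoid.coe_mul, ← mulVec_mulVec, ← mulVec_mulVec, spEquiv_symm_mulVec,
    spEquiv_symm_mulVec]
  exact hgA _

end Cfsg.Agent.FormCentral
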