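import Mathlib

/-!
A square matrix over a field is similar to its transpose.
-/

set_option autoImplicit false

namespace Cfsg.Agent.FormCentral

open Polynomial

variable {F : Type*} [Field F]

/-- The Frobenius form on `F[X]/(g)`. -/
theorem exists_frobenius {g : F[X]} (hg : g ≠ 0) :
    ∃ lam : AdjoinRoot g →ₗ[F] F, ∀ a, a ≠ 0 → ∃ b, lam (a * b) ≠ 0 := by
  classical
  set pb := AdjoinRoot.powerBasis hg
  rcases Nat.eq_zero_or_pos pb.dim with hd | hd
  · refine ⟨0, fun a ha => absurd ?_ ha⟩
    haveI : IsEmpty (Fin pb.dim) := by rw [hd]; infer_instance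
    haveI := pb.basis.repr.toEquiv.subsingleton
    exact Subsingleton.elim _ _
  refine ⟨pb.basis.coord ⟨pb.dim - 1, by omega⟩, fun a ha => ?_⟩
  set c := pb.basis.repr a
  have hne : c.support.Nonempty := Finsupp.support_nonempty_iff.2 (fun h => ha (pb.basis.repr.map_eq_zero_iff.1 h))
  set e := c.support.max' hne
  refine ⟨pb.gen ^ (pb.dim - 1 - (e : ℕ)), ?_⟩
  have hec : c e ≠ 0 := Finsupp.mem_support_iff.1 (c.support.max'_mem hne)
  have : pb.basis.coord ⟨pb.dim - 1, by omega⟩ (a * pb.gen ^ (pb.dim - 1 - (e : ℕ))) = c e := by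
    conv_lhs => rw [← pb.basis.sum_repr a, Finset.sum_mul, map_sum]
    rw [Finset.sum_eq_single e]
    · have h : pb.basis e * pb.gen ^ (pb.dim - 1 - (e : ℕ)) = pb.basis ⟨pb.dim - 1, by omega⟩ := by
        rw [pb.basis_eq_pow, pb.basis_eq_pow, ← pow_add]
        congr 1
        have := e.2
        show (e : ℕ) + (pb.dim - 1 - (e : ℕ)) = pb.dim - 1
        omega
      rw [smul_mul_assoc, map_smul, h, Module.Basis.coord_apply, Module.Basis.repr_self,
        Finsupp.single_eq_same, smul_eq_mul, mul_one]
    · intro i _ hie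
      by_cases hi : c i = 0
      · rw [show pb.basis.repr a i = 0 from hi, zero_smul, zero_mul, map_zero]
      have hlt : i < e := lt_of_le_of_ne (c.support.le_max' i (Finsupp.mem_support_iff.2 hi)) hie
      have hlt' : (i : ℕ) < e := hlt
      have h : pb.basis i * pb.gen ^ (pb.dim - 1 - (e : ℕ)) =
          pb.basis ⟨(i : ℕ) + (pb.dim - 1 - (e : ℕ)), by omega⟩ := by
        rw [pb.basis_eq_pow, pb.basis_eq_pow, ← pow_add]
      rw [smul_mul_assoc, map_smul, h, Module.Basis.coord_apply, Module.Basis.repr_self,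
        Finsupp.single_eq_of_ne (fun e' => by simp [Fin.ext_iff] at e'; omega), smul_zero]
    · exact fun h => absurd (Finset.mem_univ e) h
  rw [this]
  exact hec

variable {V : Type*} [AddCommGroup V] [Module F V] [FiniteDimensional F V]

open DirectSum in
/-- Every endomorphism is self-adjoint for some non-degenerate symmetric form. -/
theorem exists_selfAdjoint_form (A : Module.End F V) :
    ∃ B : LinearMap.BilinForm F V, (∀ u v, B u v = B v u) ∧ (∀ u v, B (A u) v = B u (A v)) ∧
      ∀ u, (∀ v, B u v = 0) → u = 0 := by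
  classical
  haveI : Module.Finite F[X] (Module.AEval' A) := inferInstance
  obtain ⟨ι, _, p, hp, e, ⟨Φ⟩⟩ := Module.equiv_directSum_of_isTorsion
    (Module.AEval.isTorsion_of_finiteDimensional F V A)
  let π : ∀ i, V →ₗ[F] AdjoinRoot (p i ^ e i) := fun i =>
    { toFun := fun v => (Φ (Module.AEval'.of A v) i :)
      map_add' := fun u v => by simp only [map_add, DirectSum.add_apply]; rfl
      map_smul' := fun c v => by
        simp only [map_smul, RingHom.id_apply]
        rw [← algebraMap_smul F[X] c (Module.AEval'.of A v), map_smul]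
        rw [show (algebraMap F F[X] c • Φ (Module.AEval'.of A v)) i =
          algebraMap F F[X] c • (Φ (Module.AEval'.of A v) i) from rfl, algebraMap_smul]
        rfl }
  have hπA : ∀ i v, π i (A v) = AdjoinRoot.root (p i ^ e i) * π i v := by
    intro i v
    show (Φ (Module.AEval'.of A (A v)) i :) = _
    rw [← Module.AEval'.X_smul_of, map_smul]
    show (Polynomial.X : F[X]) • (Φ (Module.AEval'.of A v) i) = _
    obtain ⟨Q, hQ⟩ := Submodule.Quotient.mk_surjective _ (Φ (Module.AEval'.of A v) i)
    have hQ' : π i v = AdjoinRoot.mk (p i ^ e i) Q := hQ.symm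
    rw [hQ', ← AdjoinRoot.mk_X, ← map_mul, ← hQ]
    rfl
  have hinj : ∀ v, (∀ i, π i v = 0) → v = 0 := fun v hv => by
    have : Φ (Module.AEval'.of A v) = 0 := DFinsupp.ext fun i => (hv i : _)
    simpa using this
  have hsur : ∀ i (a : AdjoinRoot (p i ^ e i)), ∃ v, π i v = a ∧ ∀ j, j ≠ i → π j v = 0 := by
    intro i a
    obtain ⟨v, hv⟩ := (Module.AEval'.of A).surjective (Φ.symm (DirectSum.of
      (fun i => F[X] ⧸ F[X] ∙ p i ^ e i) i a))
    refine ⟨v, ?_, fun j hj => ?_⟩
    · show Φ (Module.AEval'.of A v) i = a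
      rw [hv, LinearEquiv.apply_symm_apply]
      exact DirectSum.of_eq_same (β := fun i => F[X] ⧸ F[X] ∙ p i ^ e i) i a
    · show Φ (Module.AEval'.of A v) j = 0
      rw [hv, LinearEquiv.apply_symm_apply]
      exact DirectSum.of_eq_of_ne (β := fun i => F[X] ⧸ F[X] ∙ p i ^ e i) i j a hj
  choose lam hlam using fun i => exists_frobenius (g := p i ^ e i) (pow_ne_zero _ (hp i).ne_zero)
  refine ⟨∑ i, ((LinearMap.mul F (AdjoinRoot (p i ^ e i))).compl₁₂ (π i) (π i)).compr₂ (lam i), ?_, ?_, ?_⟩
  · intro u v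
    simp only [LinearMap.sum_apply, LinearMap.compr₂_apply, LinearMap.compl₁₂_apply, LinearMap.mul_apply']
    simp only [mul_comm]
  · intro u v
    simp only [LinearMap.sum_apply, LinearMap.compr₂_apply, LinearMap.compl₁₂_apply, LinearMap.mul_apply', hπA]
    exact Finset.sum_congr rfl fun i _ => by rw [mul_assoc, mul_left_comm]
  · intro u hu
    refine hinj u fun i => ?_
    by_contra h
    obtain ⟨b, hb⟩ := hlam i _ h
    obtain ⟨v, hv, hv0⟩ := hsur i b
    refine hb ?_
    have := hu v
    simp only [LinearMap.sum_apply, LinearMap.compr₂_apply, LinearMap.compl₁₂_apply, LinearMap.mul_apply'] at this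
    rw [Finset.sum_eq_single i (fun j _ hj => by rw [hv0 j hj, mul_zero, map_zero]) (by simp), hv] at this
    exact this

open Matrix in
/-- A square matrix over a field is similar to its transpose. -/
theorem isConj_transpose {n : Type*} [Fintype n] [DecidableEq n] (A : Matrix n n F) : IsConj A A.transpose := by
  obtain ⟨B, -, hA, hnd⟩ := exists_selfAdjoint_form (Matrix.toLin' A)
  set M := LinearMap.BilinForm.toMatrix' B
  have hM : IsUnit M.det := by
    rw [isUnit_iff_ne_zero]
    intro h
    obtain ⟨u, hu, hu'⟩ := Matrix.exists_vecMul_eq_zero_iff.2 h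
    refine hu (hnd u fun v => ?_)
    rw [← Matrix.toBilin'_toMatrix' B, Matrix.toBilin'_apply', dotProduct_mulVec, hu', zero_dotProduct]
  refine ⟨M.nonsingInvUnit hM, ?_⟩
  show M * A = A.transpose * M
  refine (Matrix.toBilin' (R₁ := F) (n := n)).injective (LinearMap.ext₂ fun u v => ?_)
  have h := (hA u v).symm
  rw [← Matrix.toBilin'_toMatrix' B, Matrix.toBilin'_apply', Matrix.toBilin'_apply', Matrix.toLin'_apply,
    Matrix.toLin'_apply] at h
  rw [Matrix.toBilin'_apply', Matrix.toBilin'_apply', ← mulVec_mulVec, ← mulVec_mulVec,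
    dotProduct_mulVec u A.transpose, vecMul_transpose]
  exact h

end Cfsg.Agent.FormCentral
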