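import Cfsg.Agent.S2581
import Cfsg.Agent.Lib.AutPSU.Twisted
import Cfsg.Agent.Lib.LinearGroups.UnitaryOrder
import Cfsg.Agent.Lib.AutPSL.Descent

/-!
The isometries of a hermitian form that commute with a unipotent isometry of given Jordan type.
-/

set_option autoImplicit false

namespace Cfsg.Agent.UnipotentCentralizer

open scoped Matrix
open Cfsg.Agent.JordanType Cfsg.Agent.S2581 Polynomial
open Cfsg.Agent.AutPSU (qb)

variable {K : Type*} [Field K] [Fintype K] {q : ℕ} [AutPSU.QField K q]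

/-- Conjugate transpose. -/
noncomputable def st (q : ℕ) [AutPSU.QField K q] {ι κ : Type*} (X : Matrix ι κ K) : Matrix κ ι K :=
  (X.map (qb (F := K) q))ᵀ

theorem st_apply {ι κ : Type*} (X : Matrix ι κ K) (a : κ) (b : ι) :
    st q X a b = qb (F := K) q (X b a) := rfl

theorem st_st {ι κ : Type*} (X : Matrix ι κ K) : st q (st q X) = X :=
  Matrix.ext fun a b => AutPSU.qb_qb _

theorem st_mul {ι κ μ : Type*} [Fintype κ] (X : Matrix ι κ K) (Y : Matrix κ μ K) :
    st q (X * Y) = st q Y * st q X := by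
  ext a b
  simp [st_apply, Matrix.mul_apply, map_sum, mul_comm]

theorem st_one {ι : Type*} [DecidableEq ι] : st q (1 : Matrix ι ι K) = 1 := by
  ext a b
  simp [st_apply, Matrix.one_apply, eq_comm, apply_ite (qb (F := K) q)]

theorem st_add {ι κ : Type*} (X Y : Matrix ι κ K) : st q (X + Y) = st q X + st q Y := by
  ext a b; simp [st_apply]

theorem st_smul {ι κ : Type*} (c : K) (X : Matrix ι κ K) :
    st q (c • X) = qb (F := K) q c • st q X := by
  ext a b; simp [st_apply]

/-- A fixed-point free involutive semilinear map on an abelian group of scalars. -/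
theorem exists_trace_one : ∃ c e : K, qb (F := K) q c + c = 1 ∧ e ≠ 0 ∧ qb (F := K) q e = -e := by
  obtain ⟨a, ha⟩ := AutPSU.qb_ne (F := K) (q := q)
  have he : a - qb (F := K) q a ≠ 0 := sub_ne_zero.2 (Ne.symm ha)
  refine ⟨a / (a - qb (F := K) q a), a - qb (F := K) q a, ?_, he, ?_⟩
  · rw [map_div₀, map_sub, AutPSU.qb_qb, ← neg_sub a (qb (F := K) q a), div_neg, neg_add_eq_sub,
      ← sub_div, div_self he]
  · rw [map_sub, AutPSU.qb_qb, neg_sub]

/-- Norm equations have solutions in truncated polynomials. -/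
theorem exists_norm_poly (m : ℕ) : ∃ f r : K[X], f.coeff 0 = 1 ∧
    f.map (qb (F := K) q).toRingHom * f = 1 + X + X ^ (m + 1) * r := by
  obtain ⟨c, -, hc, -, -⟩ := exists_trace_one (K := K) (q := q)
  induction m with
  | zero => exact ⟨1, -1, by simp, by simp⟩
  | succ m ih =>
    obtain ⟨f, r, hf, h⟩ := ih
    set s := (qb (F := K) q).toRingHom with hs
    have hss : ∀ g : K[X], (g.map s).map s = g := fun g => Polynomial.ext fun k => by
      rw [coeff_map, coeff_map]
      exact AutPSU.qb_qb _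
    have hr : r.map s = r := by
      have h1 := congrArg (Polynomial.map s) h
      rw [Polynomial.map_mul, hss, mul_comm f, h, Polynomial.map_add, Polynomial.map_add, Polynomial.map_one,
        map_X, Polynomial.map_mul, Polynomial.map_pow, map_X, add_right_inj] at h1
      exact (mul_left_cancel₀ (pow_ne_zero _ X_ne_zero) h1).symm
    have ha : s (r.coeff 0) = r.coeff 0 := by rw [← coeff_map, hr]
    set d : K := -(c * r.coeff 0) with hd
    obtain ⟨g, hg⟩ : (X : K[X]) ∣ r + (f.map s * C d + f * C (s d)) + X ^ (m + 1) * (C (s d) * C d) := by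
      rw [X_dvd_iff]
      simp only [coeff_add, mul_coeff_zero, coeff_map, coeff_C_zero, coeff_X_pow, hf, map_one, one_mul]
      rw [if_neg (Nat.succ_ne_zero m).symm, zero_mul, add_zero, hd, map_neg, map_mul, ha,
        show s c = qb (F := K) q c from rfl]
      linear_combination (-(r.coeff 0)) * hc
    refine ⟨f + X ^ (m + 1) * C d, g, ?_, ?_⟩
    · rw [coeff_add, mul_coeff_zero, coeff_X_pow, if_neg (Nat.succ_ne_zero m).symm, zero_mul, add_zero, hf]
    · rw [Polynomial.map_add, Polynomial.map_mul, Polynomial.map_pow, map_X, map_C]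
      linear_combination h + X ^ (m + 1) * hg

/-- The isometries of a non-degenerate hermitian Gram matrix are as many as `GU_m`. -/
theorem card_isometry {ι : Type*} [Fintype ι] [DecidableEq ι] {m : ℕ} (hm : Fintype.card ι = m)
    (G : Matrix ι ι K) (hG : st q G = G) (hu : IsUnit G) :
    Nat.card {y : Matrix ι ι K // st q y * G * y = G} = Nat.card ↥(Cfsg.GU m K q) := by
  classical
  let e : ι ≃ Fin m := Fintype.equivFinOfCardEq hm
  let G' := Matrix.reindexAlgEquiv K K e G
  have hG' : IsUnit G' := hu.map _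
  have hst : ∀ y : Matrix ι ι K, st q (Matrix.reindexAlgEquiv K K e y) = Matrix.reindexAlgEquiv K K e (st q y) :=
    fun y => Matrix.ext fun a b => rfl
  obtain ⟨h, hh⟩ := AutPSL.exists_hermitian_congr (qb (F := K) q) AutPSU.qb_qb AutPSU.qb_ne_refl hG'.unit
    (show st q G' = G' by rw [hst, hG])
  rw [IsUnit.unit_spec] at hh
  change G' = h.1 * st q h.1 at hh
  let k : GL (Fin m) K := ⟨st q h.1, st q (h⁻¹ : GL (Fin m) K).1,
    by rw [← st_mul, Units.inv_mul, st_one], by rw [← st_mul, Units.mul_inv, st_one]⟩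
  have hk : G' = st q k.1 * k.1 := by rw [hh]; show _ = st q (st q h.1) * st q h.1; rw [st_st]
  have hmem : ∀ g : GL (Fin m) K, g ∈ Cfsg.GU m K q ↔ st q g.1 * g.1 = 1 := by
    intro g
    rw [AutPSU.mem_GU_iff_mat]
    constructor
    · intro h
      have h' := congrArg (fun M : Matrix (Fin m) (Fin m) K => M.map (qb (F := K) q)) h
      simp only [Matrix.map_mul, Matrix.map_one _ (map_zero _) (map_one _)] at h'
      rwa [show (g.1.map (qb (F := K) q)).map (qb (F := K) q) = g.1 from Matrix.ext fun a b => AutPSU.qb_qb _,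
        Matrix.transpose_map] at h'
    · intro h
      have h' := congrArg (fun M : Matrix (Fin m) (Fin m) K => M.map (qb (F := K) q)) h
      simp only [Matrix.map_mul, Matrix.map_one _ (map_zero _) (map_one _)] at h'
      rwa [show (st q g.1).map (qb (F := K) q) = g.1ᵀ from Matrix.ext fun a b => AutPSU.qb_qb _] at h'
  have hiff : ∀ z : Matrix (Fin m) (Fin m) K, st q z * G' * z = G' ↔
      st q (k.1 * z * (k⁻¹).1) * (k.1 * z * (k⁻¹).1) = 1 := by
    intro z
    have e1 : st q (k.1 * z * (k⁻¹).1) * (k.1 * z * (k⁻¹).1) = st q (k⁻¹).1 * (st q z * G' * z) * (k⁻¹).1 := by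
      simp only [st_mul, hk, mul_assoc]
    have e2 : st q (k⁻¹).1 * G' * (k⁻¹).1 = 1 := by
      rw [hk, ← mul_assoc, ← st_mul, Units.mul_inv, st_one, one_mul, Units.mul_inv]
    rw [e1]
    refine ⟨fun h => by rw [h, e2], fun h => ?_⟩
    have hL : IsUnit (st q (k⁻¹).1) := ⟨⟨st q (k⁻¹).1, st q k.1, by rw [← st_mul, Units.mul_inv, st_one],
      by rw [← st_mul, Units.inv_mul, st_one]⟩, rfl⟩
    exact hL.mul_left_cancel ((k⁻¹).isUnit.mul_right_cancel (h.trans e2.symm))
  refine Nat.card_congr (Equiv.trans (Equiv.subtypeEquiv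
    ((Matrix.reindexAlgEquiv K K e).toEquiv.trans ((Units.mulLeft k).trans (Units.mulRight k⁻¹)))
    (fun y => ?_) : _ ≃ {z : Matrix (Fin m) (Fin m) K // st q z * z = 1}) ?_)
  · show _ ↔ st q (k.1 * Matrix.reindexAlgEquiv K K e y * (k⁻¹).1) *
      (k.1 * Matrix.reindexAlgEquiv K K e y * (k⁻¹).1) = 1
    rw [← hiff, hst, ← map_mul, ← map_mul]
    exact ⟨fun h => by rw [h], fun h => (Matrix.reindexAlgEquiv K K e).injective h⟩
  · exact {
      toFun := fun z => ⟨⟨z.1, st q z.1, mul_eq_one_comm.1 z.2, z.2⟩, (hmem _).2 z.2⟩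
      invFun := fun g => ⟨g.1.1, (hmem _).1 g.2⟩
      left_inv := fun z => rfl
      right_inv := fun g => Subtype.ext (Units.ext rfl) }

/-! ### The centraliser -/

section Main

variable {t : ℕ} {d : Fin t → ℕ} (hd : ∀ k, 1 ≤ d k)

theorem st_shift : st q (shift K d) = (shift K d)ᵀ := by
  ext a b
  rw [st_apply, Matrix.transpose_apply, shift_apply]
  split_ifs <;> simp

/-- The Gram matrix on the blocks of size `i`. -/
def block (G : Matrix (Idx d) (Idx d) K) (i : Fin (Finset.univ.sup d + 1)) :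
    Matrix (KB d i) (KB d i) K := fun k l =>
  G ⟨k.1, ⟨0, hd k.1⟩⟩ ⟨l.1, ⟨d l.1 - 1, by have := hd l.1; omega⟩⟩

variable {G : Matrix (Idx d) (Idx d) K}
  (hJ : (1 + (shift K d)ᵀ) * G * (1 + shift K d) = G)

include hJ in
theorem G_recursion (a b : Idx d) (hb : (b.2 : ℕ) + 1 < d b.1) :
    G a ⟨b.1, ⟨b.2 + 1, hb⟩⟩ = -(if h : (a.2 : ℕ) + 1 < d a.1 then
      G ⟨a.1, ⟨a.2 + 1, h⟩⟩ b + G ⟨a.1, ⟨a.2 + 1, h⟩⟩ ⟨b.1, ⟨b.2 + 1, hb⟩⟩ else 0) := by
  classical
  have h0 : G * shift K d + (shift K d)ᵀ * (G + G * shift K d) = 0 := by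
    have h1 : G + (G * shift K d + (shift K d)ᵀ * (G + G * shift K d)) = G + 0 := by
      rw [add_zero]
      refine Eq.trans ?_ hJ
      noncomm_ring
    exact add_left_cancel h1
  have hT : ∀ (M : Matrix (Idx d) (Idx d) K) (a b : Idx d), ((shift K d)ᵀ * M) a b =
      if h : (a.2 : ℕ) + 1 < d a.1 then M ⟨a.1, ⟨a.2 + 1, h⟩⟩ b else 0 := by
    intro M a b
    rw [show ((shift K d)ᵀ * M) a b = (Mᵀ * shift K d) b a by
      rw [← Matrix.transpose_apply (((shift K d)ᵀ) * M), Matrix.transpose_mul, Matrix.transpose_transpose],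
      mul_shift]
    rfl
  have h2 := congrFun (congrFun h0 a) b
  rw [Matrix.add_apply, Matrix.zero_apply, mul_shift, dif_pos hb, hT] at h2
  rw [eq_neg_iff_add_eq_zero]
  refine Eq.trans ?_ h2
  congr 1
  split_ifs
  · rw [Matrix.add_apply, mul_shift, dif_pos hb]
  · rfl

include hJ in
theorem G_vanish_left : ∀ (j : ℕ) (a b : Idx d), (b.2 : ℕ) = j → d a.1 ≤ a.2 + j → G a b = 0 := by
  intro j
  induction j with
  | zero => intro a b _ h; have := a.2.2; omega
  | succ j ih =>
    suffices H : ∀ (m : ℕ) (a b : Idx d), d a.1 - a.2 = m → (b.2 : ℕ) = j + 1 →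
        d a.1 ≤ a.2 + (j + 1) → G a b = 0 from fun a b hb h => H _ a b rfl hb h
    intro m
    induction m using Nat.strong_induction_on with
    | _ m ihm =>
    intro a b hm hb h
    obtain ⟨l, ⟨s, hs⟩⟩ := b
    change s = j + 1 at hb
    subst hb
    rw [G_recursion hJ a ⟨l, ⟨j, by omega⟩⟩ (by simpa using hs)]
    split_ifs with ha
    · rw [ih _ ⟨l, ⟨j, _⟩⟩ rfl (by simp only; omega),
        ihm _ (by simp only at hm ⊢; omega) ⟨a.1, ⟨a.2 + 1, ha⟩⟩ _ rfl rfl (by simp only; omega)]
      simp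
    · simp

variable (hG : st q G = G)

include hJ hG in
theorem G_vanish (a b : Idx d) (h : d a.1 ≤ a.2 + b.2 ∨ d b.1 ≤ a.2 + b.2) : G a b = 0 := by
  rcases h with h | h
  · exact G_vanish_left hJ _ a b rfl h
  · rw [← hG, st_apply, G_vanish_left hJ _ b a rfl (by omega), map_zero]

include hJ hG in
/-- The blocks are `(-1)^(i-1)`-hermitian. -/
theorem block_herm (i : Fin (Finset.univ.sup d + 1)) :
    st q (block hd G i) = (-1 : K) ^ ((i : ℕ) - 1) • block hd G i := by
  ext k l
  have hkl : d k.1 = d l.1 := k.2.trans l.2.symm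
  have hk1 := hd k.1
  have key : ∀ (j : ℕ) (hj : j < d k.1) (hj' : d k.1 - 1 - j < d k.1) (hl : j < d l.1),
      G ⟨k.1, ⟨d k.1 - 1, by omega⟩⟩ ⟨l.1, ⟨0, hd l.1⟩⟩ =
        (-1 : K) ^ j * G ⟨k.1, ⟨d k.1 - 1 - j, hj'⟩⟩ ⟨l.1, ⟨j, hl⟩⟩ := by
    intro j
    induction j with
    | zero => intros; simp
    | succ j ih =>
      intro hj hj' hl
      have e : (⟨k.1, ⟨d k.1 - 1 - j, by omega⟩⟩ : Idx d) = ⟨k.1, ⟨d k.1 - 1 - (j + 1) + 1, by omega⟩⟩ :=
        congrArg (Sigma.mk _) (Fin.ext (by simp only; omega))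
      rw [ih (by omega) (by omega) (by omega), G_recursion hJ ⟨k.1, ⟨d k.1 - 1 - (j + 1), hj'⟩⟩
        ⟨l.1, ⟨j, by omega⟩⟩ (by simpa using hl), dif_pos (by simp only; omega),
        G_vanish hJ hG ⟨k.1, ⟨d k.1 - 1 - (j + 1) + 1, _⟩⟩ ⟨l.1, ⟨j + 1, _⟩⟩ (Or.inl (by simp only; omega)),
        add_zero, pow_succ, e]
      ring
  have h := key (d k.1 - 1) (by omega) (by omega) (by omega)
  rw [st_apply, Matrix.smul_apply, smul_eq_mul, show ((i : ℕ) - 1) = d k.1 - 1 from congrArg (· - 1) k.2.symm]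
  refine Eq.trans ?_ (h.trans ?_)
  · show qb (F := K) q (G _ _) = _
    rw [← st_apply (q := q) G, hG]
  · show _ * G _ _ = _ * G _ _
    congr 2
    · exact congrArg (Sigma.mk _) (Fin.ext (by simp))
    · exact congrArg (Sigma.mk _) (Fin.ext (by simp only; omega))

include hJ in
theorem isUnit_trans (hu : IsUnit G) : IsUnit (1 + (shift K d)ᵀ) := by
  rw [Matrix.isUnit_iff_isUnit_det] at hu ⊢
  rw [← hJ, Matrix.det_mul, Matrix.det_mul] at hu
  exact (IsUnit.mul_iff.1 (IsUnit.mul_iff.1 hu).1).1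

include hJ hG in
theorem block_isUnit (hu : IsUnit G) (i : Fin (Finset.univ.sup d + 1)) : IsUnit (block hd G i) := by
  classical
  rw [← Matrix.mulVec_injective_iff_isUnit]
  suffices key : ∀ v, block hd G i *ᵥ v = 0 → v = 0 by
    intro u v huv
    exact sub_eq_zero.1 (key _ (by rw [Matrix.mulVec_sub, huv, sub_self]))
  intro v hv
  let w : Idx d → K := fun a =>
    if h : d a.1 = (i : ℕ) ∧ (a.2 : ℕ) + 1 = d a.1 then v ⟨a.1, h.1⟩ else 0
  have hGw : ∀ a : Idx d, (G *ᵥ w) a =
      ∑ m : KB d i, G a ⟨m.1, ⟨d m.1 - 1, by have := hd m.1; omega⟩⟩ * v m := by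
    intro a
    rw [Matrix.mulVec, dotProduct]
    refine (Fintype.sum_of_injective
      (fun m : KB d i => (⟨m.1, ⟨d m.1 - 1, by have := hd m.1; omega⟩⟩ : Idx d))
      (fun m m' e => Subtype.ext (congrArg Sigma.fst e)) _ _ ?_ ?_).symm
    · intro b hb
      obtain ⟨l, ⟨r, hr⟩⟩ := b
      simp only [w]
      rw [dif_neg, mul_zero]
      rintro ⟨e1, e2⟩
      exact hb ⟨⟨l, e1⟩, congrArg (Sigma.mk _) (Fin.ext (by simp only; omega))⟩
    · intro m
      simp only [w]
      rw [dif_pos ⟨m.2, by have := hd m.1; omega⟩]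
  set z : Idx d → K := fun a =>
    if (i : ℕ) ≤ a.2 then (G *ᵥ w) ⟨a.1, ⟨(a.2 : ℕ) - i, by omega⟩⟩ else 0 with hz
  have hS : ((shift K d)ᵀ) ^ (i : ℕ) *ᵥ z = G *ᵥ w := by
    funext a
    rw [← Matrix.transpose_pow, Matrix.mulVec, dotProduct]
    by_cases hlt : (a.2 : ℕ) + i < d a.1
    · rw [Finset.sum_eq_single (⟨a.1, ⟨a.2 + i, hlt⟩⟩ : Idx d)]
      · rw [Matrix.transpose_apply, shift_pow_apply, if_pos ⟨rfl, rfl⟩, one_mul, hz]
        simp
      · intro b _ hb
        rw [Matrix.transpose_apply, shift_pow_apply, if_neg, zero_mul]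
        rintro ⟨e1, e2⟩
        obtain ⟨l, r⟩ := b
        change l = a.1 at e1
        subst e1
        exact hb (congrArg (Sigma.mk _) (Fin.ext e2))
      · simp
    · rw [Finset.sum_eq_zero]
      · rw [hGw]
        rcases eq_or_ne (d a.1) i with hai | hai
        · rcases Nat.eq_zero_or_pos (a.2 : ℕ) with h0 | h0
          · have h1 := congrFun hv ⟨a.1, hai⟩
            rw [Matrix.mulVec, dotProduct, Pi.zero_apply] at h1
            refine h1.symm.trans (Finset.sum_congr rfl fun m _ => ?_)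
            obtain ⟨k, ⟨r, hr⟩⟩ := a
            change r = 0 at h0
            subst h0
            rfl
          · refine (Finset.sum_eq_zero fun m _ => ?_).symm
            have := hd m.1
            have := m.2
            rw [G_vanish hJ hG a _ (Or.inr (by simp only; omega)), zero_mul]
        · refine (Finset.sum_eq_zero fun m _ => ?_).symm
          have := hd m.1
          have := m.2
          rcases Nat.eq_zero_or_pos (a.2 : ℕ) with h0 | h0
          · rw [G_vanish hJ hG a _ (Or.inl (by simp only; omega)), zero_mul]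
          · rw [G_vanish hJ hG a _ (Or.inr (by simp only; omega)), zero_mul]
      · intro b _
        rw [Matrix.transpose_apply, shift_pow_apply, if_neg, zero_mul]
        rintro ⟨e1, e2⟩
        have h1 : (b.2 : ℕ) < d a.1 := e1 ▸ b.2.2
        omega
  set M : Matrix (Idx d) (Idx d) K := -(1 + (shift K d)ᵀ) with hM
  have h1 : M * G * shift K d = (shift K d)ᵀ * G := by
    have e : (1 + (shift K d)ᵀ) * G * shift K d + (shift K d)ᵀ * G + G = 0 + G := by
      rw [zero_add]
      refine Eq.trans ?_ hJ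
      noncomm_ring
    rw [hM, neg_mul, neg_mul, neg_eq_iff_add_eq_zero]
    exact add_right_cancel e
  have hcm : Commute M (shift K d)ᵀ := ((Commute.one_left _).add_left (Commute.refl _)).neg_left
  have hpow : ∀ k : ℕ, M ^ k * G * shift K d ^ k = (shift K d)ᵀ ^ k * G := by
    intro k
    induction k with
    | zero => simp
    | succ k ih =>
      calc M ^ (k + 1) * G * shift K d ^ (k + 1) = M ^ k * (M * G * shift K d) * shift K d ^ k := by
            rw [pow_succ, pow_succ']; simp only [mul_assoc]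
        _ = (shift K d)ᵀ * (M ^ k * G * shift K d ^ k) := by
            rw [h1, ← mul_assoc (M ^ k), (hcm.pow_left k).eq]; simp only [mul_assoc]
        _ = _ := by rw [ih, ← mul_assoc, ← pow_succ']
  have hw : w = shift K d ^ (i : ℕ) *ᵥ (G⁻¹ *ᵥ (M ^ (i : ℕ) *ᵥ z)) := by
    have hinj : Function.Injective fun x : Idx d → K => M ^ (i : ℕ) *ᵥ (G *ᵥ x) :=
      (Matrix.mulVec_injective_iff_isUnit.2 (((isUnit_trans hJ hu).neg).pow _)).comp
        (Matrix.mulVec_injective_iff_isUnit.2 hu)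
    refine hinj ?_
    show M ^ (i : ℕ) *ᵥ (G *ᵥ w) = M ^ (i : ℕ) *ᵥ (G *ᵥ _)
    rw [← hS, Matrix.mulVec_mulVec, (hcm.pow_pow _ _).eq]
    simp only [Matrix.mulVec_mulVec]
    congr 1
    rw [← mul_assoc (M ^ (i : ℕ)) G, ← mul_assoc (M ^ (i : ℕ) * G), hpow,
      mul_assoc ((shift K d)ᵀ ^ (i : ℕ)) G, ← mul_assoc G,
      Matrix.mul_nonsing_inv _ ((Matrix.isUnit_iff_isUnit_det _).1 hu), one_mul]
  funext m
  have h2 := congrFun hw (⟨m.1, ⟨d m.1 - 1, by have := hd m.1; omega⟩⟩ : Idx d)
  simp only [w] at h2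
  rw [dif_pos ⟨m.2, by have := hd m.1; omega⟩] at h2
  rw [show v ⟨m.1, m.2⟩ = v m from rfl] at h2
  rw [h2, Matrix.mulVec, dotProduct, Pi.zero_apply]
  refine Finset.sum_eq_zero fun b _ => ?_
  rw [shift_pow_apply, if_neg, zero_mul]
  rintro ⟨-, e2⟩
  have := m.2
  have := hd m.1
  simp only at e2
  omega

/-- The adjoint of the form. -/
noncomputable def adj (q : ℕ) [AutPSU.QField K q] (G X : Matrix (Idx d) (Idx d) K) : Matrix (Idx d) (Idx d) K :=
  G⁻¹ * st q X * G

theorem G_mul_adj (hu : IsUnit G) (X : Matrix (Idx d) (Idx d) K) : G * adj q G X = st q X * G := by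
  rw [adj, ← mul_assoc, ← mul_assoc, Matrix.mul_nonsing_inv _ ((Matrix.isUnit_iff_isUnit_det _).1 hu), one_mul]

attribute [local irreducible] adj

include hJ in
theorem adj_commute (hu : IsUnit G) {X : Matrix (Idx d) (Idx d) K} (hX : Commute (shift K d) X) :
    Commute (shift K d) (adj q G X) := by
  suffices h : Commute (1 + shift K d) (adj q G X) by simpa using h.sub_left (Commute.one_left _)
  have hX' : st q X * (1 + (shift K d)ᵀ) = (1 + (shift K d)ᵀ) * st q X := by
    have h := congrArg (st q) ((Commute.one_left X).add_left hX).eq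
    simpa only [st_mul, st_add, st_one, st_shift] using h
  refine ((isUnit_trans hJ hu).mul hu).mul_left_cancel ?_
  rw [← mul_assoc, hJ, G_mul_adj hu, ← mul_assoc, mul_assoc _ G (adj q G X), G_mul_adj hu,
    ← mul_assoc (1 + (shift K d)ᵀ) (st q X), ← hX', mul_assoc (st q X), mul_assoc (st q X), hJ]

include hJ hG in
theorem proj_adj (hu : IsUnit G) {X : Matrix (Idx d) (Idx d) K} (hX : Commute (shift K d) X)
    (i : Fin (Finset.univ.sup d + 1)) :
    block hd G i * proj hd (adj q G X) i = st q (proj hd X i) * block hd G i := by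
  classical
  have hY := adj_commute hJ hu hX (q := q)
  ext k l
  have hl1 := hd l.1
  have hl2 := l.2
  have hk2 := k.2
  have h := congrFun (congrFun (G_mul_adj (q := q) hu X) ⟨k.1, ⟨0, hd k.1⟩⟩) ⟨l.1, ⟨d l.1 - 1, by omega⟩⟩
  rw [Matrix.mul_apply, Matrix.mul_apply] at h
  rw [Matrix.mul_apply, Matrix.mul_apply]
  refine Eq.trans ?_ (h.trans ?_)
  · refine Fintype.sum_of_injective
      (fun m : KB d i => (⟨m.1, ⟨d m.1 - 1, by have := hd m.1; omega⟩⟩ : Idx d))
      (fun m m' e => Subtype.ext (congrArg Sigma.fst e)) _ _ ?_ ?_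
    · intro a ha
      by_contra hne
      obtain ⟨hne1, hne2⟩ := mul_ne_zero_iff.1 hne
      have c1 : ¬ (d a.1 ≤ (a.2 : ℕ) ∨ d k.1 ≤ (a.2 : ℕ)) := fun hc =>
        hne1 (G_vanish hJ hG _ _ (by simp only; omega))
      rw [apply_of_commute hd hY _ a _ rfl] at hne2
      split_ifs at hne2 with hle
      · have c2 : adm d ((⟨a.1, ⟨(a.2 : ℕ) - (d l.1 - 1), by omega⟩⟩ : Idx d), l.1) := by
          by_contra hc
          exact hne2 (adm_of_commute hd hY ((⟨a.1, ⟨(a.2 : ℕ) - (d l.1 - 1), by omega⟩⟩ : Idx d), l.1) hc)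
        simp only [adm] at c2 hle
        refine ha ⟨⟨a.1, by omega⟩, ?_⟩
        exact congrArg (Sigma.mk _) (Fin.ext (by simp only; omega))
      · exact hne2 rfl
    · intro m
      show G _ _ * proj hd (adj q G X) i m l = _
      congr 1
      have hm2 := m.2
      rw [apply_of_commute hd hY _ ⟨m.1, ⟨d m.1 - 1, _⟩⟩ _ rfl, dif_pos (by simp only; omega)]
      exact congrArg (fun x => adj q G X x _) (congrArg (Sigma.mk _) (Fin.ext (by simp only; omega)))
  · refine (Fintype.sum_of_injective (fun m : KB d i => (⟨m.1, ⟨0, hd m.1⟩⟩ : Idx d))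
      (fun m m' e => Subtype.ext (congrArg Sigma.fst e)) _ _ ?_ ?_).symm
    · intro a ha
      by_contra hne
      obtain ⟨hne1, hne2⟩ := mul_ne_zero_iff.1 hne
      have c1 : ¬ (d a.1 ≤ (a.2 : ℕ) + (d l.1 - 1) ∨ d l.1 ≤ (a.2 : ℕ) + (d l.1 - 1)) := fun hc =>
        hne2 (G_vanish hJ hG _ _ (by simp only; omega))
      have c2 : adm d (a, k.1) := by
        by_contra hc
        refine hne1 ?_
        rw [st_apply, adm_of_commute hd hX (a, k.1) hc, map_zero]
      simp only [adm] at c2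
      refine ha ⟨⟨a.1, by omega⟩, ?_⟩
      exact congrArg (Sigma.mk _) (Fin.ext (by simp only; omega))
    · intro m
      rfl

theorem proj_add (X Y : Matrix (Idx d) (Idx d) K) (i : Fin (Finset.univ.sup d + 1)) :
    proj hd (X + Y) i = proj hd X i + proj hd Y i := rfl

theorem proj_smul (c : K) (X : Matrix (Idx d) (Idx d) K) (i : Fin (Finset.univ.sup d + 1)) :
    proj hd (c • X) i = c • proj hd X i := rfl

theorem proj_sub (X Y : Matrix (Idx d) (Idx d) K) (i : Fin (Finset.univ.sup d + 1)) :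
    proj hd (X - Y) i = proj hd X i - proj hd Y i := rfl

theorem proj_zero (i : Fin (Finset.univ.sup d + 1)) :
    proj hd (0 : Matrix (Idx d) (Idx d) K) i = 0 := rfl

theorem commute_aeval {X : Matrix (Idx d) (Idx d) K} (hX : Commute (shift K d) X) (f : K[X]) :
    Commute (shift K d) (aeval X f) := by
  induction f using Polynomial.induction_on' with
  | add f g hf hg => rw [map_add]; exact hf.add_right hg
  | monomial k c =>
    rw [aeval_monomial, ← Algebra.smul_def]
    exact (hX.pow_right k).smul_right c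

include hd in
theorem proj_aeval {X : Matrix (Idx d) (Idx d) K} (hX : Commute (shift K d) X)
    (i : Fin (Finset.univ.sup d + 1)) (h0 : proj hd X i = 0) (f : K[X]) :
    proj hd (aeval X f) i = f.coeff 0 • 1 := by
  conv_lhs => rw [← X_mul_divX_add f]
  rw [map_add, map_mul, aeval_X, aeval_C, Algebra.algebraMap_eq_smul_one, proj_add, proj_smul,
    proj_one hd, proj_mul hd hX (commute_aeval hX _), h0, zero_mul, zero_add]

/-- Parameters with prescribed leading blocks. -/
def colsM (r : Rest d → K) (M : ∀ i, Matrix (KB d i) (KB d i) K) (p : Idx d × Fin t) : K :=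
  if h : lead d p then M (idx p.2) ⟨p.1.1, h.1⟩ ⟨p.2, rfl⟩
  else if h' : adm d p then r ⟨p, h', h⟩ else 0

theorem colsM_adm (r : Rest d → K) (M : ∀ i, Matrix (KB d i) (KB d i) K) (p : Idx d × Fin t)
    (hp : ¬ adm d p) : colsM r M p = 0 := by
  rw [colsM, dif_neg, dif_neg hp]
  rintro ⟨h1, h2⟩
  exact hp (by simp only [adm]; omega)

include hd in
theorem proj_colsM (r : Rest d → K) (M : ∀ i, Matrix (KB d i) (KB d i) K)
    (i : Fin (Finset.univ.sup d + 1)) : proj hd (ofCols (colsM r M)) i = M i := by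
  ext l k
  show ofCols (colsM r M) _ _ = _
  rw [ofCols, dif_pos (by simp)]
  obtain ⟨k, hk⟩ := k
  obtain ⟨i, hi⟩ := i
  change d k = i at hk
  subst hk
  rw [colsM, dif_pos ⟨l.2, by simp⟩]

include hd in
theorem card_rad :
    Nat.card {X : Matrix (Idx d) (Idx d) K // Commute (shift K d) X ∧ ∀ i, proj hd X i = 0} =
      Nat.card (Rest d → K) := by
  refine Nat.card_congr
    { toFun := fun X p => X.1 p.1.1 ⟨p.1.2, ⟨0, hd p.1.2⟩⟩
      invFun := fun r => ⟨ofCols (colsM r fun _ => 0), ofCols_commute (colsM_adm _ _),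
        fun i => proj_colsM hd _ _ i⟩
      left_inv := fun X => ?_
      right_inv := fun r => ?_ }
  · refine Subtype.ext ?_
    ext a b
    show ofCols _ a b = _
    rw [apply_of_commute hd X.2.1 _ a b rfl, ofCols]
    split_ifs with hab
    · generalize (⟨a.1, ⟨a.2 - b.2, by omega⟩⟩ : Idx d) = a'
      unfold colsM
      split_ifs with h1 h2
      · obtain ⟨k, j⟩ := a'
        have hj : j = ⟨0, hd k⟩ := Fin.ext h1.2
        subst hj
        exact (congrFun (congrFun (X.2.2 (idx b.1)) ⟨k, h1.1⟩) ⟨b.1, rfl⟩).symm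
      · rfl
      · exact (adm_of_commute hd X.2.1 (a', b.1) h2).symm
    · rfl
  · funext p
    show ofCols (colsM r fun _ => 0) p.1.1 ⟨p.1.2, ⟨0, hd p.1.2⟩⟩ = _
    rw [ofCols, dif_pos (by simp)]
    show colsM r (fun _ => 0) p.1 = _
    rw [colsM, dif_neg p.2.2, dif_pos p.2.1]

include hd hJ hG in
/-- The number of isometries in the centraliser. -/
theorem card_centralizer (hu : IsUnit G) :
    Nat.card {X : Matrix (Idx d) (Idx d) K // Commute (shift K d) X ∧ st q X * G * X = G} =
      q ^ Nat.card (Rest d) *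
        ∏ i : Fin (Finset.univ.sup d + 1), Nat.card ↥(Cfsg.GU (Fintype.card (KB d i)) K q) := by
  classical
  haveI : Finite (Matrix (Idx d) (Idx d) K) := inferInstanceAs (Finite (Idx d → Idx d → K))
  have hdet := (Matrix.isUnit_iff_isUnit_det _).1 hu
  set A := fun X : Matrix (Idx d) (Idx d) K => adj q G X with hA
  have hAc : ∀ {X}, Commute (shift K d) X → Commute (shift K d) (A X) := fun h => adj_commute hJ hu h
  have hA1 : A 1 = 1 := by simp only [A, adj, st_one, mul_one, Matrix.nonsing_inv_mul _ hdet]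
  have hAadd : ∀ X Y, A (X + Y) = A X + A Y := fun X Y => by simp only [A, adj, st_add, mul_add, add_mul]
  have hAsub : ∀ X Y, A (X - Y) = A X - A Y := fun X Y => by
    rw [eq_sub_iff_add_eq, ← hAadd, sub_add_cancel]
  have hAsmul : ∀ (c : K) X, A (c • X) = qb (F := K) q c • A X := fun c X => by
    simp only [A, adj, st_smul, Algebra.mul_smul_comm, Algebra.smul_mul_assoc]
  have hAmul : ∀ X Y, A (X * Y) = A Y * A X := fun X Y => by
    simp only [A, adj, st_mul, mul_assoc, Matrix.mul_nonsing_inv_cancel_left _ _ hdet]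
  have hAA : ∀ X, A (A X) = X := fun X => by
    have h := congrArg (st q) (G_mul_adj (q := q) hu X)
    rw [st_mul, st_mul, st_st, hG] at h
    simp only [A]
    rw [adj, mul_assoc, h, Matrix.nonsing_inv_mul_cancel_left _ _ hdet]
  have hiff : ∀ X, st q X * G * X = G ↔ A X * X = 1 := by
    intro X
    rw [← G_mul_adj hu, mul_assoc]
    exact ⟨fun h => hu.mul_left_cancel (h.trans (mul_one G).symm), fun h => by rw [h, mul_one]⟩
  have hblock : ∀ i, IsUnit (block hd G i) := fun i => block_isUnit hd hJ hG hu i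
  have hpA : ∀ {X}, Commute (shift K d) X → ∀ i,
      block hd G i * proj hd (A X) i = st q (proj hd X i) * block hd G i := fun h i => proj_adj hd hJ hG hu h i
  have hrad : ∀ {X}, Commute (shift K d) X → (∀ i, proj hd X i = 0) → ∀ i, proj hd (A X) i = 0 := by
    intro X hX h0 i
    refine (hblock i).mul_left_cancel ?_
    rw [hpA hX, h0, mul_zero]
    simp [st, Matrix.map_zero]
  let One := {X : Matrix (Idx d) (Idx d) K // Commute (shift K d) X ∧ ∀ i, proj hd X i = 1}
  let Fix := {X : Matrix (Idx d) (Idx d) K // (Commute (shift K d) X ∧ ∀ i, proj hd X i = 0) ∧ A X = X}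
  let Ker := {X : One // A X.1 * X.1 = 1}
  have hOneU : ∀ X : One, IsUnit X.1 := fun X => isUnit_of_proj hd X.2.1 fun i => by rw [X.2.2]; exact isUnit_one
  have hinv : ∀ {X}, Commute (shift K d) X → IsUnit X → Commute (shift K d) X⁻¹ := by
    intro X hX hXu
    obtain ⟨U, rfl⟩ := hXu
    rw [← Matrix.coe_units_inv]
    exact hX.units_inv_right
  have hunit : ∀ {X}, A X * X = 1 → IsUnit X := fun h => IsUnit.of_mul_eq_one _ (mul_eq_one_comm.1 h)
  -- norm equations
  have hsolve : ∀ s : Fix, ∃ x : One, A x.1 * x.1 = 1 + s.1 := by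
    rintro ⟨s, ⟨hs, hs0⟩, hsA⟩
    obtain ⟨a, ha⟩ : ∃ a, s ^ a = 0 := by
      obtain ⟨a, b, hab, he⟩ := Finite.exists_ne_map_eq_of_infinite (fun k : ℕ => s ^ k)
      wlog hlt : a < b generalizing a b
      · exact this b a hab.symm he.symm (by omega)
      refine ⟨a, ?_⟩
      have hu1 : IsUnit (1 - s ^ (b - a)) := by
        refine isUnit_of_proj hd ((Commute.one_right _).sub_right (hs.pow_right _)) fun i => ?_
        obtain ⟨k, hk⟩ : ∃ k, b - a = k + 1 := ⟨b - a - 1, by omega⟩
        rw [proj_sub, proj_one hd, hk, pow_succ', proj_mul hd hs (hs.pow_right _), hs0, zero_mul, sub_zero]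
        exact isUnit_one
      refine hu1.mul_left_eq_zero.1 ?_
      rw [mul_sub, mul_one, ← pow_add, show a + (b - a) = b by omega, ← show s ^ a = s ^ b from he, sub_self]
    obtain ⟨f, r, hf0, hf⟩ := exists_norm_poly (K := K) (q := q) a
    refine ⟨⟨aeval s f, commute_aeval hs f, fun i => by rw [proj_aeval hd hs i (hs0 i), hf0, one_smul]⟩, ?_⟩
    have hAe : ∀ g : K[X], A (aeval s g) = aeval s (g.map (qb (F := K) q).toRingHom) := by
      intro g
      induction g using Polynomial.induction_on' with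
      | add g h hg hh => rw [map_add, hAadd, hg, hh, Polynomial.map_add, map_add]
      | monomial k c =>
        rw [Polynomial.map_monomial, aeval_monomial, aeval_monomial, ← Algebra.smul_def, ← Algebra.smul_def,
          hAsmul]
        congr 1
        induction k with
        | zero => rw [pow_zero, hA1]
        | succ k ih => rw [pow_succ, hAmul, ih, hsA]; exact (Commute.self_pow s k).eq
    show A (aeval s f) * aeval s f = _
    rw [hAe, ← map_mul, hf, map_add, map_add, map_one, aeval_X, map_mul, map_pow, aeval_X,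
      pow_succ, ha, zero_mul, zero_mul, add_zero]
  choose sec hsec using hsolve
  have hdefect : ∀ {X}, Commute (shift K d) X → (∀ i, proj hd (A X * X) i = 1) →
      (Commute (shift K d) (A X * X - 1) ∧ ∀ i, proj hd (A X * X - 1) i = 0) ∧
        A (A X * X - 1) = A X * X - 1 := by
    intro X hX hp
    refine ⟨⟨((hAc hX).mul_right hX).sub_right (Commute.one_right _), fun i => ?_⟩, ?_⟩
    · rw [proj_sub, hp, proj_one hd, sub_self]
    · rw [hAsub, hAmul, hAA, hA1]
  have hpA1 : ∀ X : One, ∀ i, proj hd (A X.1 * X.1) i = 1 := by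
    intro X i
    rw [proj_mul hd (hAc X.2.1) X.2.1, X.2.2, mul_one]
    refine (hblock i).mul_left_cancel ?_
    rw [hpA X.2.1, X.2.2, st_one, one_mul, mul_one]
  let dfc : One → Fix := fun X => ⟨A X.1 * X.1 - 1, hdefect X.2.1 (hpA1 X)⟩
  have hdfc : ∀ X : One, A X.1 * X.1 = 1 + (dfc X).1 := fun X => (add_sub_cancel 1 _).symm
  have hdiv : ∀ {X Y}, A X * X = A Y * Y → IsUnit Y → A (X * Y⁻¹) * (X * Y⁻¹) = 1 := by
    intro X Y h hY
    have hY' := (Matrix.isUnit_iff_isUnit_det _).1 hY
    calc A (X * Y⁻¹) * (X * Y⁻¹) = A Y⁻¹ * (A X * X) * Y⁻¹ := by rw [hAmul]; simp only [mul_assoc]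
      _ = A (Y * Y⁻¹) * (Y * Y⁻¹) := by rw [h, hAmul]; simp only [mul_assoc]
      _ = 1 := by rw [Matrix.mul_nonsing_inv _ hY', hA1, one_mul]
  have hpinv : ∀ {X Y}, Commute (shift K d) X → Commute (shift K d) Y → IsUnit Y →
      (∀ i, proj hd Y i = proj hd X i) → ∀ i, proj hd (X * Y⁻¹) i = 1 := by
    intro X Y hX hY hYu h i
    rw [proj_mul hd hX (hinv hY hYu), ← h, ← proj_mul hd hY (hinv hY hYu),
      Matrix.mul_nonsing_inv _ ((Matrix.isUnit_iff_isUnit_det _).1 hYu), proj_one hd]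
  -- the radical is twice the hermitian radical
  haveI : Finite Fix := Subtype.finite
  obtain ⟨-, e, -, he0, he⟩ := exists_trace_one (K := K) (q := q)
  obtain ⟨a0, ha0⟩ := AutPSU.qb_ne (F := K) (q := q)
  have hne : a0 - qb (F := K) q a0 ≠ 0 := sub_ne_zero.2 (Ne.symm ha0)
  have hqsub : qb (F := K) q (a0 - qb (F := K) q a0)⁻¹ = -(a0 - qb (F := K) q a0)⁻¹ := by
    rw [map_inv₀, map_sub, AutPSU.qb_qb, ← neg_sub, inv_neg]
  let Rad := {X : Matrix (Idx d) (Idx d) K // Commute (shift K d) X ∧ ∀ i, proj hd X i = 0}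
  let toP : Fix × Fix → Rad := fun x => ⟨x.1.1 + a0 • x.2.1, x.1.2.1.1.add_right (x.2.2.1.1.smul_right a0),
    fun i => by rw [proj_add, proj_smul, x.1.2.1.2, x.2.2.1.2, smul_zero, add_zero]⟩
  have htoP : Function.Bijective toP := by
    constructor
    · rintro ⟨f1, f2⟩ ⟨g1, g2⟩ h
      have h1 : f1.1 + a0 • f2.1 = g1.1 + a0 • g2.1 := congrArg Subtype.val h
      have h2 := congrArg A h1
      rw [hAadd, hAadd, hAsmul, hAsmul, f1.2.2, f2.2.2, g1.2.2, g2.2.2] at h2
      have h3 : (a0 - qb (F := K) q a0) • f2.1 = (a0 - qb (F := K) q a0) • g2.1 := by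
        rw [sub_smul, sub_smul, ← add_sub_add_left_eq_sub (a0 • f2.1) _ f1.1, h1, h2, add_sub_add_left_eq_sub]
      have h4 := smul_right_injective _ hne h3
      rw [h4, add_left_inj] at h1
      exact Prod.ext (Subtype.ext h1) (Subtype.ext h4)
    · rintro ⟨r, hr, hr0⟩
      set f2 := (a0 - qb (F := K) q a0)⁻¹ • (r - A r) with hf2
      have hf2c : Commute (shift K d) f2 ∧ ∀ i, proj hd f2 i = 0 :=
        ⟨(hr.sub_right (hAc hr)).smul_right _, fun i => by
          rw [hf2, proj_smul, proj_sub, hr0, hrad hr hr0, sub_self, smul_zero]⟩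
      have hf2A : A f2 = f2 := by rw [hf2, hAsmul, hAsub, hAA, hqsub, neg_smul, ← smul_neg, neg_sub]
      refine ⟨(⟨r - a0 • f2, ⟨hr.sub_right (hf2c.1.smul_right a0), fun i => by
        rw [proj_sub, proj_smul, hr0, hf2c.2, smul_zero, sub_zero]⟩, ?_⟩, ⟨f2, hf2c, hf2A⟩),
        Subtype.ext (sub_add_cancel _ _)⟩
      have h4 : (a0 - qb (F := K) q a0) • f2 = r - A r := by rw [hf2, smul_inv_smul₀ hne]
      rw [hAsub, hAsmul, hf2A]
      rw [sub_smul] at h4
      linear_combination (norm := abel) h4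
  -- unipotent part
  let toK : Fix × Ker → One := fun x => ⟨x.2.1.1 * (sec x.1).1, x.2.1.2.1.mul_right (sec x.1).2.1, fun i => by
    rw [proj_mul hd x.2.1.2.1 (sec x.1).2.1, x.2.1.2.2, (sec x.1).2.2, one_mul]⟩
  have htoK : Function.Bijective toK := by
    constructor
    · rintro ⟨f, z⟩ ⟨g, w⟩ h
      have h1 : z.1.1 * (sec f).1 = w.1.1 * (sec g).1 := congrArg Subtype.val h
      have h2 : ∀ (z : Ker) (f : Fix), A (z.1.1 * (sec f).1) * (z.1.1 * (sec f).1) = 1 + f.1 := by
        intro z f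
        rw [hAmul, mul_assoc, ← mul_assoc (A z.1.1), z.2, one_mul, hsec]
      have hfg : f = g := Subtype.ext (add_left_cancel ((h2 z f).symm.trans ((h1 ▸ h2 w g))))
      subst hfg
      exact Prod.ext rfl (Subtype.ext (Subtype.ext ((hOneU (sec f)).mul_right_cancel h1)))
    · intro X
      have hY := hOneU (sec (dfc X))
      refine ⟨(dfc X, ⟨⟨X.1 * (sec (dfc X)).1⁻¹, X.2.1.mul_right (hinv (sec (dfc X)).2.1 hY),
        hpinv X.2.1 (sec (dfc X)).2.1 hY fun i => by rw [X.2.2, (sec (dfc X)).2.2]⟩,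
        hdiv ((hdfc X).trans (hsec _).symm) hY⟩), Subtype.ext ?_⟩
      exact Matrix.nonsing_inv_mul_cancel_right _ _ ((Matrix.isUnit_iff_isUnit_det _).1 hY)
  -- lifts of the quotient
  let Y := fun i => {y : Matrix (KB d i) (KB d i) K // st q y * block hd G i * y = block hd G i}
  have hlift : ∀ y : ∀ i, Y i, ∃ L : Matrix (Idx d) (Idx d) K,
      (Commute (shift K d) L ∧ A L * L = 1) ∧ ∀ i, proj hd L i = (y i).1 := by
    intro y
    set X := ofCols (colsM (0 : Rest d → K) fun i => (y i).1) with hXdef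
    have hX : Commute (shift K d) X := ofCols_commute (colsM_adm _ _)
    have hXp : ∀ i, proj hd X i = (y i).1 := fun i => proj_colsM hd _ _ i
    have hp : ∀ i, proj hd (A X * X) i = 1 := by
      intro i
      refine (hblock i).mul_left_cancel ?_
      rw [proj_mul hd (hAc hX) hX, ← mul_assoc, hpA hX, hXp, (y i).2, mul_one]
    have hu2 : IsUnit (sec ⟨_, hdefect hX hp⟩).1 := hOneU _
    refine ⟨X * (sec ⟨_, hdefect hX hp⟩).1⁻¹, ⟨hX.mul_right (hinv (sec _).2.1 hu2),
      hdiv ((add_sub_cancel 1 _).symm.trans (hsec ⟨_, hdefect hX hp⟩).symm) hu2⟩, fun i => ?_⟩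
    have h := proj_mul hd (sec ⟨_, hdefect hX hp⟩).2.1 (hinv (sec ⟨_, hdefect hX hp⟩).2.1 hu2) i
    rw [Matrix.mul_nonsing_inv _ ((Matrix.isUnit_iff_isUnit_det _).1 hu2), proj_one hd, (sec _).2.2,
      one_mul] at h
    rw [proj_mul hd hX (hinv (sec _).2.1 hu2), ← h, mul_one, hXp]
  choose L hL hLp using hlift
  let Un := {X : Matrix (Idx d) (Idx d) K // Commute (shift K d) X ∧ st q X * G * X = G}
  let toU : Ker × (∀ i, Y i) → Un := fun x => ⟨x.1.1.1 * L x.2, x.1.1.2.1.mul_right (hL x.2).1, (hiff _).2 (by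
    rw [hAmul, mul_assoc, ← mul_assoc (A x.1.1.1), x.1.2, one_mul, (hL x.2).2])⟩
  have htoU : Function.Bijective toU := by
    constructor
    · rintro ⟨z, y⟩ ⟨w, y'⟩ h
      have h1 : z.1.1 * L y = w.1.1 * L y' := congrArg Subtype.val h
      have h2 : y = y' := funext fun i => Subtype.ext (by
        have h3 := congrArg (fun M => proj hd M i) h1
        simp only [proj_mul hd z.1.2.1 (hL y).1, proj_mul hd w.1.2.1 (hL y').1, z.1.2.2, w.1.2.2, one_mul,
          hLp] at h3
        exact h3)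
      subst h2
      exact Prod.ext (Subtype.ext (Subtype.ext ((hunit (hL y).2).mul_right_cancel h1))) rfl
    · rintro ⟨X, hX, hXG⟩
      have h1 := (hiff X).1 hXG
      let y : ∀ i, Y i := fun i => ⟨proj hd X i, by
        rw [← hpA hX, mul_assoc, ← proj_mul hd (hAc hX) hX, h1, proj_one hd, mul_one]⟩
      have hY := hunit (hL y).2
      refine ⟨(⟨⟨X * (L y)⁻¹, hX.mul_right (hinv (hL y).1 hY), hpinv hX (hL y).1 hY (hLp y)⟩,
        hdiv (h1.trans (hL y).2.symm) hY⟩, y), Subtype.ext ?_⟩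
      exact Matrix.nonsing_inv_mul_cancel_right _ _ ((Matrix.isUnit_iff_isUnit_det _).1 hY)
  have hOR : Nat.card One = Nat.card Rad := Nat.card_congr
    { toFun := fun X => ⟨X.1 - 1, X.2.1.sub_right (Commute.one_right _), fun i => by
        rw [proj_sub, X.2.2, proj_one hd, sub_self]⟩
      invFun := fun X => ⟨X.1 + 1, X.2.1.add_right (Commute.one_right _), fun i => by
        rw [proj_add, X.2.2, proj_one hd, zero_add]⟩
      left_inv := fun X => Subtype.ext (sub_add_cancel _ _)
      right_inv := fun X => Subtype.ext (add_sub_cancel_right _ _) }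
  have hRad : Nat.card Fix * Nat.card Fix = (q ^ Nat.card (Rest d)) ^ 2 := by
    rw [← Nat.card_prod, Nat.card_eq_of_bijective _ htoP, card_rad hd, Nat.card_fun,
      AutPSU.QField.card (F := K) (q := q), ← pow_mul, ← pow_mul, mul_comm]
  have hFix : Nat.card Fix = q ^ Nat.card (Rest d) :=
    Nat.pow_left_injective two_ne_zero (by simpa [pow_two] using hRad)
  have hKer : Nat.card Fix * Nat.card Ker = Nat.card Fix * Nat.card Fix := by
    rw [← Nat.card_prod, Nat.card_eq_of_bijective _ htoK, hOR, ← Nat.card_eq_of_bijective _ htoP, Nat.card_prod]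
  have hpos : 0 < Nat.card Fix := by
    rw [hFix]
    exact pow_pos (by have := AutPSU.two_le_q (F := K) (q := q); omega) _
  rw [← Nat.card_eq_of_bijective _ htoU, Nat.card_prod, Nat.card_pi, Nat.eq_of_mul_eq_mul_left hpos hKer, hFix]
  refine congrArg _ (Finset.prod_congr rfl fun i _ => ?_)
  -- rescale to a hermitian matrix
  set ε := e ^ ((i : ℕ) - 1) with hε
  have hε0 : ε ≠ 0 := pow_ne_zero _ he0
  rw [← card_isometry (q := q) rfl (ε • block hd G i) ?_ ?_]
  · refine Nat.card_congr (Equiv.subtypeEquivRight fun y => ?_)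
    rw [Algebra.mul_smul_comm, Algebra.smul_mul_assoc]
    exact (smul_right_injective _ hε0).eq_iff.symm
  · rw [st_smul, block_herm hd hJ hG, hε, map_pow, he, smul_smul, ← mul_pow]
    simp
  · exact (hblock i).smul (Units.mk0 ε hε0)

end Main

end Cfsg.Agent.UnipotentCentralizer
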