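import Cfsg.Agent.Lib.FormCentral.Core
import Cfsg.Agent.Lib.Forms.UnitaryFin
import Cfsg.Prelude.Def_LieClassical

/-!
Conjugacy in the finite general unitary group is controlled by the general linear group.
-/

set_option autoImplicit false

namespace Cfsg.Agent.FormCentral

open FormsLib

/-- Hilbert 90 for a finite commutative ring with an unramified involution. -/
theorem exists_of_norm_one {E : Type*} [CommRing E] [Finite E] (θ : E →+* E) (hθ : ∀ x, θ (θ x) = x)
    {c : E} (hc : IsUnit (c - θ c)) {z : E} (hz : z * θ z = 1) : ∃ y : E, IsUnit y ∧ y = θ y * z := by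
  classical
  obtain ⟨e, he⟩ := hc.exists_right_inv
  have hθe : θ e = -e := by
    have h := congrArg θ he
    rw [map_mul, map_sub, hθ, map_one] at h
    linear_combination (-θ e) * he + (-e) * h
  let φ : Eˣ →* Eˣ :=
    { toFun := fun y => y * (Units.map θ.toMonoidHom y)⁻¹
      map_one' := by simp
      map_mul' := fun a b => by rw [map_mul, mul_inv, mul_mul_mul_comm] }
  let N : Eˣ →* Eˣ :=
    { toFun := fun y => y * Units.map θ.toMonoidHom y
      map_one' := by simp
      map_mul' := fun a b => by rw [map_mul, mul_mul_mul_comm] }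
  have hker : φ.ker ≤ N.range := by
    intro y hy
    rw [MonoidHom.mem_ker] at hy
    have hy' : θ (y : E) = y := (congrArg Units.val (mul_inv_eq_one.1 hy)).symm
    set R := θ.eqLocus (RingHom.id E)
    have hmem : ∀ x, x ∈ R ↔ θ x = x := fun x => Iff.rfl
    obtain ⟨a, b, hab⟩ := exists_rep (R := R)
      (t := ⟨c + θ c, by rw [hmem, map_add, hθ, add_comm]⟩) (n := ⟨c * θ c, by rw [hmem, map_mul, hθ, mul_comm]⟩)
      (IsUnit.of_mul_eq_one ⟨e * e, by rw [hmem, map_mul, hθe, neg_mul_neg]⟩ (Subtype.ext (by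
        show ((c + θ c) ^ 2 - 4 * (c * θ c)) * (e * e) = 1
        linear_combination (1 + (c - θ c) * e) * he)))
      (y := ⟨(y : E), hy'⟩)
      (IsUnit.of_mul_eq_one ⟨((y⁻¹ : Eˣ) : E), by
        rw [hmem]
        exact (congrArg Units.val ((map_inv (Units.map θ.toMonoidHom) y).trans
          (congrArg (·⁻¹) (Units.ext hy' : Units.map θ.toMonoidHom y = y))) :)⟩ (Subtype.ext y.mul_inv))
    have h1 : ((a : E) + c * b) * θ ((a : E) + c * b) = y := by
      have h := congrArg Subtype.val hab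
      change (a : E) ^ 2 + (c + θ c) * a * b + c * θ c * (b : E) ^ 2 = y at h
      rw [map_add, map_mul, (hmem _).1 a.2, (hmem _).1 b.2]
      linear_combination h
    have hu : IsUnit ((a : E) + c * b) := isUnit_of_mul_isUnit_left (h1 ▸ y.isUnit)
    exact ⟨hu.unit, Units.ext h1⟩
  have hle : φ.range ≤ N.ker := by
    rintro _ ⟨y, rfl⟩
    have hinv : Units.map θ.toMonoidHom (Units.map θ.toMonoidHom y) = y := Units.ext (hθ y)
    show y * (Units.map θ.toMonoidHom y)⁻¹ * Units.map θ.toMonoidHom (y * (Units.map θ.toMonoidHom y)⁻¹) = 1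
    rw [map_mul, map_inv, hinv, mul_assoc, inv_mul_cancel_left, mul_inv_cancel]
  have heq : φ.range = N.ker := by
    refine Subgroup.eq_of_le_of_card_ge hle ?_
    have h1 : Nat.card φ.range * Nat.card φ.ker = Nat.card Eˣ := by
      rw [← Subgroup.index_ker, mul_comm, Subgroup.card_mul_index]
    have h2 : Nat.card N.range * Nat.card N.ker = Nat.card Eˣ := by
      rw [← Subgroup.index_ker, mul_comm, Subgroup.card_mul_index]
    have h3 : Nat.card φ.ker ≤ Nat.card N.range := Subgroup.card_le_of_le hker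
    have h4 : 0 < Nat.card φ.ker := Nat.card_pos
    nlinarith
  let zu : Eˣ := ⟨z, θ z, hz, by rw [mul_comm]; exact hz⟩
  obtain ⟨y, hy⟩ : zu ∈ φ.range := heq.symm ▸ (Units.ext hz : N zu = 1)
  refine ⟨y, y.isUnit, ?_⟩
  have h := congrArg Units.val (mul_inv_eq_iff_eq_mul.1 hy)
  simpa [zu, mul_comm] using h

variable {K : Type*} [Field K] [Fintype K] {q n : ℕ}

open Matrix in
/-- Similar unitary matrices are conjugate by a unitary matrix. -/
theorem gu_intertwine (hK : Fintype.card K = q ^ 2) {A B P : GL (Fin n) K} (hA : A ∈ Cfsg.GU n K q)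
    (hB : B ∈ Cfsg.GU n K q) (hP : P * A = B * P) :
    ∃ g : GL (Fin n) K, g ∈ Cfsg.GU n K q ∧ g * A = B * g := by
  classical
  obtain ⟨σ, hσ, hσσ, hq2⟩ := exists_qhom hK
  have hU := (hermB_isUnitary hK n hσ hσσ hq2).1
  obtain ⟨c, hc⟩ : ∃ c : K, σ c ≠ c := by
    by_contra h
    push Not at h
    exact hU.sigma_ne (RingHom.ext h)
  have hpres : ∀ X : GL (Fin n) K, X ∈ Cfsg.GU n K q → ∀ u v,
      hermB n σ ((X : Matrix (Fin n) (Fin n) K) *ᵥ u) ((X : Matrix (Fin n) (Fin n) K) *ᵥ v) = hermB n σ u v := by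
    intro X hX u v
    rw [hermB_apply hσ, hermB_apply hσ]
    exact hX v u
  let Pe : (Fin n → K) ≃ₗ[K] (Fin n → K) := (Matrix.GeneralLinearGroup.toLin P).toLinearEquiv
  obtain ⟨g, hg, hgA⟩ := exists_isometry_intertwine hU.tf hU.tf (mulVecLin (A : Matrix (Fin n) (Fin n) K))
    (mulVecLin (B : Matrix (Fin n) (Fin n) K)) (hpres A hA) (hpres B hB) Pe
    (fun v => by
      show (P : Matrix (Fin n) (Fin n) K) *ᵥ ((A : Matrix (Fin n) (Fin n) K) *ᵥ v) =
        (B : Matrix (Fin n) (Fin n) K) *ᵥ ((P : Matrix (Fin n) (Fin n) K) *ᵥ v)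
      rw [mulVec_mulVec, mulVec_mulVec, ← Units.val_mul, ← Units.val_mul, hP])
    (algebraMap K _ c) (algebraMap K _ (σ c))
    (fun u v => by simp [map_smulₛₗ])
    (fun X _ => Algebra.commutes _ X) (fun X _ => Algebra.commutes _ X)
    (by rw [← map_sub]; exact (sub_ne_zero.2 (Ne.symm hc)).isUnit.map _)
  let G : GL (Fin n) K := Matrix.GeneralLinearGroup.toLin.symm (LinearMap.GeneralLinearGroup.ofLinearEquiv g)
  have hG : ∀ v, (G : Matrix (Fin n) (Fin n) K) *ᵥ v = g v := fun v =>
    LinearMap.toMatrix'_mulVec (g.toLinearMap : (Fin n → K) →ₗ[K] (Fin n → K)) v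
  refine ⟨G, fun u v => ?_, Units.ext (Matrix.ext_of_mulVec_single fun j => ?_)⟩
  · show hermForm n K q ((G : Matrix (Fin n) (Fin n) K) *ᵥ u) ((G : Matrix (Fin n) (Fin n) K) *ᵥ v) = _
    rw [hG, hG, ← hermB_apply hσ, ← hermB_apply hσ, hg]
  · rw [Units.val_mul, Units.val_mul, ← mulVec_mulVec, ← mulVec_mulVec, hG, hG]
    exact hgA _

end Cfsg.Agent.FormCentral
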